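import Cfsg.Agent.Helper1.BG139Defs
import Cfsg.Prelude.Def_OddOrder
import Cfsg.Agent.S1422
import Cfsg.Agent.Helper23.Uniq
import Cfsg.Agent.Helper23.Trans

/-!
# CALL S1378 (helper1), pieces S1 and B1
-/

set_option autoImplicit false

namespace Cfsg.Agent.Helper61

open Cfsg Subgroup Cfsg.Agent.Helper1

universe u

variable {G : Type u} [Group G] [Finite G]

/-- PIECE `S1`. -/
theorem bg139_part1 (hG : IsMinSimpleOddOrder G) (p : ℕ) (hp : p.Prime) (hpG : p ∣ Nat.card G) :
    ∃ M : Subgroup G, IsCoatom M ∧ p ∈ sigma M := by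
  have : Fact p.Prime := ⟨hp⟩
  have : IsSimpleGroup G := hG.2.1
  obtain ⟨P⟩ : Nonempty (Sylow p G) := inferInstance
  have hPcard : Nat.card (P : Subgroup G) = p ^ (Nat.card G).factorization p :=
    P.card_eq_multiplicity
  have hfac : 0 < (Nat.card G).factorization p :=
    hp.factorization_pos_of_dvd Nat.card_pos.ne' hpG
  have hpP : p ∣ Nat.card (P : Subgroup G) := by
    rw [hPcard]
    exact dvd_pow_self p hfac.ne'
  have hPbot : (P : Subgroup G) ≠ ⊥ := by
    intro h
    rw [h, Subgroup.card_bot] at hpP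
    exact hp.one_lt.ne' (Nat.dvd_one.mp hpP)
  have hPtop : (P : Subgroup G) ≠ ⊤ := by
    intro h
    -- G would be a p-group, hence solvable... use: G is not commutative but a simple p-group is
    have hPG : IsPGroup p G := by
      have := P.isPGroup'
      rw [h] at this
      exact (this.of_equiv Subgroup.topEquiv)
    have hnil : Group.IsNilpotent G := hPG.isNilpotent
    have hsolv : Group.IsSolvable G := inferInstance
    have hcomm : ∀ a b : G, a * b = b * a := IsSimpleGroup.comm_iff_isSolvable.mpr hsolv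
    exact hG.2.2.1 ⟨⟨hcomm⟩⟩
  have hN : normalizer ((P : Subgroup G) : Set G) ≠ ⊤ :=
    Cfsg.Agent.Helper23.normalizer_ne_top_of_simple hPbot hPtop
  obtain ⟨M, hM, hNM⟩ := Cfsg.Agent.Helper23.uq_exists_coatom_ge hN
  have hPM : (P : Subgroup G) ≤ M := Subgroup.le_normalizer.trans hNM
  refine ⟨M, hM, hp, ?_, P.subtype hPM, ?_⟩
  · exact hpP.trans (Subgroup.card_dvd_of_le hPM)
  · have : ((P.subtype hPM : Sylow p M) : Subgroup M).map M.subtype = (P : Subgroup G) := by
      ext x
      simp only [Subgroup.mem_map, Sylow.coe_subtype, Subgroup.mem_subgroupOf]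
      constructor
      · rintro ⟨y, hy, rfl⟩
        exact hy
      · intro hx
        exact ⟨⟨x, hPM hx⟩, hx, rfl⟩
    rw [this]
    exact hNM

/-- PIECE `B1`. -/
theorem bg139_S_comm (hG : IsMinSimpleOddOrder G) {M Ms S : Subgroup G} {s : ℕ}
    (c : BG139Cfg M Ms S s) : ∀ a ∈ S, ∀ b ∈ S, a * b = b * a := by
  have : Fact s.Prime := ⟨c.hs⟩
  by_cases hc : IsMulCommutative ↥S
  · intro a ha b hb
    have := hc.is_comm.comm (⟨a, ha⟩ : S) ⟨b, hb⟩
    exact congrArg Subtype.val this
  · exfalso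
    obtain ⟨M0, -, huniq⟩ := Cfsg.Agent.S1422.result hG s S c.hSp hc
    have hSM : S ≤ M := Subgroup.le_normalizer.trans (c.hN.trans inf_le_left)
    have hSMs : S ≤ Ms := Subgroup.le_normalizer.trans (c.hN.trans inf_le_right)
    have h1 : M = M0 := huniq M ⟨c.hM, hSM⟩
    have h2 : Ms = M0 := huniq Ms ⟨c.hMs, hSMs⟩
    have h3 := c.hnc 1
    apply h3
    have h4 : M.map (MulAut.conj (1 : G)).toMonoidHom = M := by
      rw [map_one]
      exact Subgroup.map_id M
    rw [h4, h2, ← h1]

end Cfsg.Agent.Helper61
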