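import Cfsg.Agent.Helper1.C9Defs
import Cfsg.Agent.S1350
import Cfsg.Agent.S1364
import Cfsg.Agent.S1372
import Cfsg.Agent.Helper20.BG65SUBS
import Cfsg.Agent.Helper23.FittingHall

/-!
# CALL S1376 (helper1), piece BAS: `c9_basic` (helper61)
-/

set_option autoImplicit false

namespace Cfsg.Agent.Helper61

open Cfsg Subgroup
open Cfsg.Agent.Helper1 (C9)

universe u

variable {G : Type u} [Group G] [Finite G]

/-- BAS. (1) `κ(M) = ∅` but `κ(L) ≠ ∅` (`hKstH` + S1364 for `N`: `N_σ ⊓ C(K) ≠ ⊥`), so `M ≠ L`;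
(2) `K ≤ F(M ⊓ L) ≤ M ⊓ L`; (3) `hKst`; (4) S1372 for `N`; (5) else `K` is a `σ(M)`-subgroup of `M`,
so `K ≤ M_σ` (normal Hall), `K ≤ (M ⊓ L) ⊓ M_σ = ⊥`; (6) `hE`; (7) `|M ⊓ L| = [M : M_σ]` is prime to
`σ(M)` (S1350); (8) `x`. -/
theorem c9_basic (hG : IsMinSimpleOddOrder G) {M N K U L : Subgroup G} {x : G}
    (h : C9 M N K U L x) :
    M ≠ L ∧ K ≤ M ⊓ L ∧ K ≤ sigmaCore L ∧ (Nat.card K).Prime ∧ Nat.card K ∉ sigma M ∧
      (M ⊓ L) ⊓ sigmaCore M = ⊥ ∧
      (∀ s : ℕ, s.Prime → s ∣ Nat.card ↥(M ⊓ L) → s ∣ Nat.card M ∧ s ∉ sigma M) ∧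
      sigmaCore M ≠ ⊥ := by
  have hKML : K ≤ M ⊓ L := h.hKF.trans (Subgroup.map_subtype_le _)
  have hKprime : (Nat.card K).Prime :=
    (Cfsg.Agent.S1372.result hG N h.hN K U h.hKU h.hK1 h.hU1).1
  have hbot : (M ⊓ L) ⊓ sigmaCore M = ⊥ := h.hE.2.2.1
  refine ⟨?_, hKML, ?_, hKprime, ?_, hbot, ?_, ?_⟩
  · -- (1)
    intro hML
    have hne := (Cfsg.Agent.S1364.result hG N h.hN K U h.hKU h.hK1).2.1
    apply hne
    have hcard : Nat.card ↥(sigmaCore N ⊓ centralizer (K : Set G)) = 1 := by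
      by_contra hc
      obtain ⟨p, hp, hpd⟩ := Nat.exists_prime_and_dvd hc
      have := h.hKstH.2.1 p hp hpd
      rw [← hML, h.hκ] at this
      exact this
    exact (Subgroup.card_eq_one).1 hcard
  · -- (3)
    have := h.hKst
    exact this.le.trans inf_le_left
  · -- (5)
    intro hσ
    have hKσ : K ≤ sigmaCore M := by
      refine Cfsg.Agent.Helper20.bg65_le_sigmaCore hG h.hM (hKML.trans inf_le_left) ?_
      intro s hs hsd
      have : s = Nat.card K := (Nat.prime_dvd_prime_iff_eq hs hKprime).1 hsd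
      rw [this]; exact hσ
    have : K ≤ (M ⊓ L) ⊓ sigmaCore M := le_inf hKML hKσ
    rw [hbot] at this
    exact h.hK1 (le_bot_iff.1 this)
  · -- (7)
    intro s hs hsd
    refine ⟨hsd.trans (Subgroup.card_dvd_of_le inf_le_left), ?_⟩
    intro hσ
    have hHall := (Cfsg.Agent.S1350.result hG M h.hM).1
    have hnd := hHall.2.2 s hs hσ
    apply hnd
    have hcard := Cfsg.Agent.Helper23.card_of_isComplIn _ _ _ h.hE
    have hrel : (sigmaCore M).relIndex M * Nat.card ↥(sigmaCore M) = Nat.card M := by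
      rw [← Nat.card_congr (Subgroup.subgroupOfEquivOfLe hHall.1).toEquiv, mul_comm]
      exact Subgroup.card_mul_index ((sigmaCore M).subgroupOf M)
    have hpos : 0 < Nat.card ↥(sigmaCore M) := Nat.card_pos
    have : (sigmaCore M).relIndex M = Nat.card ↥(M ⊓ L) := by
      have : (sigmaCore M).relIndex M * Nat.card ↥(sigmaCore M)
          = Nat.card ↥(M ⊓ L) * Nat.card ↥(sigmaCore M) := by rw [hrel, hcard]
      exact Nat.eq_of_mul_eq_mul_right hpos this
    rw [this]; exact hsd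
  · -- (8)
    intro hb
    have := h.hx
    rw [hb, Subgroup.mem_bot] at this
    exact h.hx1 this

end Cfsg.Agent.Helper61
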