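import Cfsg.Agent.Helper23.Uniq
import Cfsg.Agent.Helper23.Uniq3
import Cfsg.Agent.Helper35.SZ

/-!
helper61: piece NORMU of CALL S1435 (helper23) - if `H` is the unique maximal subgroup over
`C_G(x)` for every `x ∈ R#`, `R ≠ 1`, then `N_G(R) ≤ H`.
-/

set_option autoImplicit false

namespace Cfsg.Agent.Helper61

open Cfsg Subgroup
open scoped Pointwise

universe u

variable {G : Type u} [Group G] [Finite G] {M K U Mstar H : Subgroup G}

/-- NORMU. If `H` is the unique maximal subgroup over `C_G(x)` for every `x ∈ R#`, `R ≠ 1`, then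
`N_G(R) ≤ H` (for `n ∈ N_G(R)`: `C_G(n x n⁻¹) = n C_G(x) n⁻¹ ≤ n H n⁻¹`, so `n H n⁻¹ = H`,
`n ∈ N_G(H) = H`). -/
theorem bg65_norm_le (hG : IsMinSimpleOddOrder G) {H R : Subgroup G} (hH : IsCoatom H)
    (hR1 : R ≠ ⊥)
    (h : ∀ x ∈ R, x ≠ 1 → centralizer ({x} : Set G) ≤ H ∧
      ∀ L : Subgroup G, IsCoatom L → centralizer ({x} : Set G) ≤ L → L = H) :
    normalizer (R : Set G) ≤ H := by
  obtain ⟨⟨x, hxR⟩, hx1'⟩ := (Subgroup.ne_bot_iff_exists_ne_one).mp hR1
  have hx1 : x ≠ 1 := fun h0 => hx1' (Subtype.ext h0)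
  have hHbot : H ≠ ⊥ := by
    intro hb
    have h3 : x ∈ H := by
      apply (h x hxR hx1).1
      rw [Subgroup.mem_centralizer_iff]
      intro y hy
      rw [Set.mem_singleton_iff] at hy
      rw [hy]
    rw [hb, Subgroup.mem_bot] at h3
    exact hx1 h3
  have hNH : normalizer (H : Set G) = H :=
    Cfsg.Agent.Helper23.uq_normalizer_eq hG hH hHbot le_rfl le_normalizer
  intro n hn
  have hx'R : n⁻¹ * x * n ∈ R := by
    have h3 := (Subgroup.mem_normalizer_iff.mp (Subgroup.inv_mem _ hn) x).mp hxR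
    rwa [inv_inv] at h3
  have hx'1 : n⁻¹ * x * n ≠ 1 := by
    intro h0
    apply hx1
    have h3 : x = n * (n⁻¹ * x * n) * n⁻¹ := by group
    rw [h3, h0]
    group
  have hL : centralizer ({x} : Set G) ≤ MulAut.conj n • H := by
    intro c hc
    rw [Cfsg.Agent.Helper35.mem_conj_smul]
    apply (h _ hx'R hx'1).1
    rw [Subgroup.mem_centralizer_iff] at hc ⊢
    intro y hy
    rw [Set.mem_singleton_iff] at hy
    have h3 : x * c = c * x := hc x (Set.mem_singleton x)
    rw [hy]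
    calc n⁻¹ * x * n * (n⁻¹ * c * n) = n⁻¹ * (x * c) * n := by group
      _ = n⁻¹ * (c * x) * n := by rw [h3]
      _ = n⁻¹ * c * n * (n⁻¹ * x * n) := by group
  have hLH : MulAut.conj n • H = H :=
    (h x hxR hx1).2 _ (Cfsg.Agent.Helper23.isCoatom_conj_smul n hH) hL
  rw [← hNH]
  exact Cfsg.Agent.Helper35.mem_normalizer_iff_conj_smul_eq.mpr hLH

end Cfsg.Agent.Helper61
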