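import Cfsg.Agent.Helper22.BG10b
import Cfsg.Agent.Helper31.BGCFHb
import Cfsg.Agent.Helper54.BG14T2
import Cfsg.Agent.Helper58.BG15NILU
import Cfsg.Agent.Helper35.Coprime
import Cfsg.Agent.Helper35.SZ
import Cfsg.Agent.S1363
import Cfsg.Agent.S1365
import Cfsg.Agent.S1372
import Cfsg.Agent.S1403

/-!
helper61: piece U0 of CALL BG16 (helper25) - a complement `U` of `M_F` in `M'` with
`N_G(U) ≤ M` forces the `U₀` of a standard factorisation `M = K U₀ M_σ` (`K ≠ 1`) to be trivial.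
-/

set_option autoImplicit false

namespace Cfsg.Agent.Helper61

open Cfsg Subgroup

universe u

variable {G : Type u} [Group G] [Finite G]

/-- U0. If a complement `U` of `M_F` in `M'` has `N_G(U) ≤ M`, then the `U₀` of a standard
factorisation `M = K U₀ M_σ` with `K ≠ 1` is trivial.  (Else S1372 gives `M_σ ≤ F(M)`, so `M_σ`
is nilpotent (`Helper58.bg15_sigma_nilpotent_of_le_fitting`) and `M_F = M_σ`
(`Helper31.bgc_sigmaCore_le_fittingHall`, `Helper54.bg14t_fittingHall_le`); `M' = U₀ M_σ`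
(S1365); `U` and `U₀` are complements of the normal Hall subgroup `M_σ` in `M'`, hence
conjugate by an element of `M'` (Schur–Zassenhaus, `Helper35.SZ` / `Helper35.sz_conj'`);
`N_G(U₀) ≰ M` by S1363, so `N_G(U) ≰ M`.) -/
theorem bg16_U_eq_bot (hG : IsMinSimpleOddOrder G) (M : Subgroup G) (hM : IsCoatom M)
    (K U₀ : Subgroup G) (hKU : IsSigmaDecomposition M K U₀) (hK1 : K ≠ ⊥) (U : Subgroup G)
    (hU : IsComplIn (fittingHallOf M) U ⁅M, M⁆) (hN : normalizer (U : Set G) ≤ M) :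
    U₀ = ⊥ := by
  by_contra hU1
  obtain ⟨-, -, hσF⟩ := Cfsg.Agent.S1372.result hG M hM K U₀ hKU hK1 hU1
  have hnil : Group.IsNilpotent ↥(sigmaCore M) :=
    Cfsg.Agent.Helper58.bg15_sigma_nilpotent_of_le_fitting M hσF
  have hFσ : fittingHallOf M = sigmaCore M :=
    le_antisymm (Cfsg.Agent.Helper54.bg14t_fittingHall_le hG hM)
      (Cfsg.Agent.Helper31.bgc_sigmaCore_le_fittingHall hG hM hnil)
  obtain ⟨hM', -⟩ := Cfsg.Agent.S1365.result hG M hM K U₀ hKU hK1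
  obtain ⟨hU₀ab, hNM⟩ := Cfsg.Agent.S1363.result hG M hM K U₀ hKU hK1
  rw [hFσ] at hU
  obtain ⟨hσM', hUM', hσU, hprod⟩ := hU
  obtain ⟨hU₀M, -, hU₀inf, -⟩ := hKU.compl
  have hσM : sigmaCore M ≤ M := by
    unfold sigmaCore
    exact Subgroup.map_subtype_le _
  have hMσ : M ≤ normalizer ((sigmaCore M : Subgroup G) : Set G) := by
    intro m hm
    rw [Subgroup.mem_normalizer_iff]
    intro h
    unfold sigmaCore
    constructor
    · rintro ⟨y, hy, rfl⟩
      exact ⟨⟨m, hm⟩ * y * ⟨m, hm⟩⁻¹, (piCore_normal (sigma M) ↥M).conj_mem y hy ⟨m, hm⟩, rfl⟩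
    · rintro ⟨y, hy, hyh⟩
      refine ⟨⟨m, hm⟩⁻¹ * y * ⟨m, hm⟩, ?_, ?_⟩
      · have h3 := (piCore_normal (sigma M) ↥M).conj_mem y hy ⟨m, hm⟩⁻¹
        rwa [inv_inv] at h3
      · have h3 : (M.subtype (⟨m, hm⟩⁻¹ * y * ⟨m, hm⟩) : G) = m⁻¹ * (M.subtype y) * m := rfl
        rw [h3, hyh]
        group
  have hU₀σ : U₀ ≤ normalizer ((sigmaCore M : Subgroup G) : Set G) := hU₀M.trans hMσ
  have hM'le : (⁅M, M⁆ : Subgroup G) ≤ M := by
    rw [hM']
    exact sup_le hU₀M hσM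
  have hUM : U ≤ M := hUM'.trans hM'le
  have hUσ : U ≤ normalizer ((sigmaCore M : Subgroup G) : Set G) := hUM.trans hMσ
  have hσU₀ : sigmaCore M ⊓ U₀ = ⊥ := by
    rw [eq_bot_iff]
    rintro x ⟨h1, h2⟩
    have h3 : x ∈ U₀ ⊓ (K ⊔ sigmaCore M) := ⟨h2, Subgroup.mem_sup_right h1⟩
    rwa [hU₀inf] at h3
  have hc1 : Nat.card (sigmaCore M) * Nat.card U₀ = Nat.card ↥(sigmaCore M ⊔ U₀) := by
    have hcA := Cfsg.Agent.Helper35.isComplement'_subgroupOf (L := sigmaCore M ⊔ U₀)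
      (M := sigmaCore M) (H := U₀) le_sup_left (sup_le le_normalizer hU₀σ) le_sup_right hσU₀
      (fun l hl => Cfsg.Agent.Helper35.exists_mul_of_mem_sup_of_le_normalizer hU₀σ hl)
    have h3 := hcA.card_mul_card
    rwa [Cfsg.Agent.Helper35.card_subgroupOf_of_le le_sup_left,
      Cfsg.Agent.Helper35.card_subgroupOf_of_le le_sup_right] at h3
  have hc2 : Nat.card (sigmaCore M) * Nat.card U = Nat.card ↥(sigmaCore M ⊔ U) := by
    have hcA := Cfsg.Agent.Helper35.isComplement'_subgroupOf (L := sigmaCore M ⊔ U)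
      (M := sigmaCore M) (H := U) le_sup_left (sup_le le_normalizer hUσ) le_sup_right hσU
      (fun l hl => Cfsg.Agent.Helper35.exists_mul_of_mem_sup_of_le_normalizer hUσ hl)
    have h3 := hcA.card_mul_card
    rwa [Cfsg.Agent.Helper35.card_subgroupOf_of_le le_sup_left,
      Cfsg.Agent.Helper35.card_subgroupOf_of_le le_sup_right] at h3
  have hsupU : sigmaCore M ⊔ U = sigmaCore M ⊔ U₀ := by
    have h3 : sigmaCore M ⊔ U = ⁅M, M⁆ := by
      apply le_antisymm (sup_le hσM' hUM')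
      intro m hm
      obtain ⟨a, ha, b, hb, rfl⟩ := hprod m hm
      exact Subgroup.mul_mem _ (Subgroup.mem_sup_left ha) (Subgroup.mem_sup_right hb)
    rw [h3, hM', sup_comm]
  have hcard : Nat.card U = Nat.card U₀ := by
    rw [hsupU, ← hc1] at hc2
    exact Nat.eq_of_mul_eq_mul_left Nat.card_pos hc2
  have hcop : (Nat.card U₀).Coprime (Nat.card (sigmaCore M)) := by
    have hUq : Cfsg.Agent.Helper22.BGUniq G :=
      fun K hK h1 h2 => Cfsg.Agent.S1403.result hG K hK h1 h2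
    obtain ⟨⟨-, hpi, hidx⟩, -, -⟩ := Cfsg.Agent.Helper22.bg10_sigma_hall hG hUq hM
    by_contra hnc
    obtain ⟨p, hp, hp1, hp2⟩ := Nat.Prime.not_coprime_iff_dvd.mp hnc
    apply hidx p hp (hpi p hp hp2)
    have h3 : Nat.card U₀ ∣ (sigmaCore M).relIndex M := by
      have h4 : Nat.card ((sigmaCore M).subgroupOf M) * ((sigmaCore M).subgroupOf M).index
          = Nat.card M := Subgroup.card_mul_index _
      rw [Cfsg.Agent.Helper35.card_subgroupOf_of_le hσM] at h4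
      have h5 : Nat.card ↥(sigmaCore M ⊔ U₀) ∣ Nat.card M :=
        Subgroup.card_dvd_of_le (sup_le hσM hU₀M)
      rw [← hc1, ← h4] at h5
      exact Nat.dvd_of_mul_dvd_mul_left Nat.card_pos h5
    exact hp1.trans h3
  have hsolv : Group.IsSolvable ↥(sigmaCore M) := by
    have hnil' := hnil
    infer_instance
  have hB : U ≤ sigmaCore M ⊔ U₀ := by
    rw [← hsupU]
    exact le_sup_right
  obtain ⟨n, hn, hconj⟩ := Cfsg.Agent.Helper35.isz hU₀σ hcop (Or.inr hsolv) hB hcard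
  apply hNM
  intro g hg
  have h1 : n * g * n⁻¹ ∈ normalizer (U : Set G) := by
    rw [Subgroup.mem_normalizer_iff]
    intro x
    rw [← hconj, Cfsg.Agent.Helper35.mem_conj_smul, Cfsg.Agent.Helper35.mem_conj_smul,
      (Subgroup.mem_normalizer_iff.mp hg) (n⁻¹ * x * n)]
    have h3 : n⁻¹ * (n * g * n⁻¹ * x * (n * g * n⁻¹)⁻¹) * n = g * (n⁻¹ * x * n) * g⁻¹ := by
      group
    rw [h3]
  have h2 := hN h1
  have h3 : g = n⁻¹ * (n * g * n⁻¹) * n := by group
  rw [h3]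
  exact M.mul_mem (M.mul_mem (M.inv_mem (hσM hn)) h2) (hσM hn)

end Cfsg.Agent.Helper61
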