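import Mathlib

/-!
# CALL BGP (helper23), PIECE PW: elements of prime order of `⟨k * y⟩`.
-/

set_option autoImplicit false

namespace Cfsg.Agent.Helper61

open Subgroup

universe u

variable {G : Type u} [Group G] [Finite G]

/-- PW (pure). An element of prime order of `⟨k * y⟩` (`k`, `y` commuting of coprime orders) is a
power of `k` or of `y`. -/
theorem bgp_prime_zpowers {k y w : G} (hky : Commute k y)
    (hcop : (orderOf k).Coprime (orderOf y)) (hw : w ∈ zpowers (k * y))
    (hp : (orderOf w).Prime) : w ∈ zpowers k ∨ w ∈ zpowers y := by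
  obtain ⟨n, rfl⟩ := Subgroup.mem_zpowers_iff.mp hw
  rw [hky.mul_zpow] at hp ⊢
  have hcomm : Commute (k ^ n) (y ^ n) := (hky.zpow_right n).zpow_left n
  have hda : orderOf (k ^ n) ∣ orderOf k := by
    apply orderOf_dvd_of_pow_eq_one
    rw [← zpow_natCast, ← zpow_mul, mul_comm, zpow_mul, zpow_natCast, pow_orderOf_eq_one, one_zpow]
  have hdb : orderOf (y ^ n) ∣ orderOf y := by
    apply orderOf_dvd_of_pow_eq_one
    rw [← zpow_natCast, ← zpow_mul, mul_comm, zpow_mul, zpow_natCast, pow_orderOf_eq_one, one_zpow]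
  have hc : (orderOf (k ^ n)).Coprime (orderOf (y ^ n)) :=
    Nat.Coprime.coprime_dvd_left hda (Nat.Coprime.coprime_dvd_right hdb hcop)
  rw [hcomm.orderOf_mul_eq_mul_orderOf_of_coprime hc] at hp
  rcases Nat.prime_mul_iff.mp hp with ⟨-, h1⟩ | ⟨-, h1⟩
  · left
    rw [orderOf_eq_one_iff.mp h1, mul_one]
    exact Subgroup.zpow_mem_zpowers k n
  · right
    rw [orderOf_eq_one_iff.mp h1, one_mul]
    exact Subgroup.zpow_mem_zpowers y n

end Cfsg.Agent.Helper61
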