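import Mathlib
import Cfsg.Prelude.Def_CaseTheorems
import Cfsg.Prelude.Def_OddOrderLocal
import Cfsg.Agent.Helper49.OddCyclic
import Cfsg.Agent.Helper29.PCube2
import Cfsg.Agent.S4143

set_option autoImplicit false
set_option linter.unusedSectionVars false
set_option linter.unusedVariables false
set_option linter.unusedSimpArgs false
set_option linter.style.haveILetI false

namespace Cfsg.Agent.Helper61

/-- commutators of a nonabelian group of order `p ^ 3` are central. -/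
theorem bkC_comm_mem {X : Type*} [Group X] [Finite X] {p : ℕ} [Fact p.Prime] (B : Subgroup X)
    (hB : Nat.card B = p ^ 3) (hna : ¬ IsMulCommutative B) (a b : X) (ha : a ∈ B) (hb : b ∈ B) :
    a * b * a⁻¹ * b⁻¹ ∈ Subgroup.centralizer (B : Set X) ⊓ B := by
  have hp : p.Prime := Fact.out
  obtain ⟨h1, -⟩ := Cfsg.Agent.Helper29.cube_center hB hna
  have hQ : Nat.card (B ⧸ Subgroup.center B) = p ^ 2 := by
    have := Subgroup.card_eq_card_quotient_mul_card_subgroup (Subgroup.center B)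
    rw [hB, h1] at this
    have h3 : p ^ 2 * p = Nat.card (B ⧸ Subgroup.center B) * p := by rw [← this]; ring
    exact (Nat.eq_of_mul_eq_mul_right hp.pos h3).symm
  have hcomm := (IsPGroup.isMulCommutative_of_card_eq_prime_sq hQ).is_comm.comm
    (QuotientGroup.mk' (Subgroup.center B) ⟨a, ha⟩)
    (QuotientGroup.mk' (Subgroup.center B) ⟨b, hb⟩)
  have hmem : (⟨a, ha⟩ * ⟨b, hb⟩ * ⟨a, ha⟩⁻¹ * ⟨b, hb⟩⁻¹ : B) ∈ Subgroup.center B := by
    have h : (QuotientGroup.mk' (Subgroup.center B))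
        (⟨a, ha⟩ * ⟨b, hb⟩ * ⟨a, ha⟩⁻¹ * ⟨b, hb⟩⁻¹ : B) = 1 := by
      rw [map_mul, map_mul, map_mul, map_inv, map_inv, hcomm]
      group
    exact (QuotientGroup.eq_one_iff _).mp h
  refine ⟨?_, B.mul_mem (B.mul_mem (B.mul_mem ha hb) (B.inv_mem ha)) (B.inv_mem hb)⟩
  refine Subgroup.mem_centralizer_iff.mpr ?_
  intro c hc
  have := Subgroup.mem_center_iff.mp hmem ⟨c, hc⟩
  exact congrArg Subtype.val this

/-- PIECE C of CALL S3888. -/
theorem bk_maxclass_of_nonab {R : Type*} [Group R] [Finite R] {p : ℕ} [Fact p.Prime] (hp : p ≠ 2)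
    (n : ℕ) (hn : Nat.card R = p ^ n)
    (hS : ∀ S : Subgroup R, (∀ s ∈ S, s ^ p = 1) → Nat.card S ≤ p ^ 2)
    (B : Subgroup R) (hB : Nat.card B = p ^ 3) (hBna : ¬ ∀ a ∈ B, ∀ b ∈ B, a * b = b * a) :
    Group.nilpotencyClass R = n - 1 := by
  classical
  have hpp : p.Prime := Fact.out
  have hna : ¬ IsMulCommutative B := by
    intro h
    apply hBna
    intro a ha b hb
    exact congrArg Subtype.val (h.is_comm.comm ⟨a, ha⟩ ⟨b, hb⟩)
  by_cases hC : Subgroup.centralizer (B : Set R) ≤ B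
  · exact Cfsg.Agent.S4143.result n hn B hB hna hC
  exfalso
  obtain ⟨hZcard, hpow⟩ := Cfsg.Agent.Helper29.cube_center_sub B hB hna
  have hcomm := bkC_comm_mem B hB hna
  obtain ⟨Z, hZdef⟩ : ∃ Z, Z = Subgroup.centralizer (B : Set R) ⊓ B := ⟨_, rfl⟩
  rw [← hZdef] at hZcard hpow hcomm
  have hZmem : ∀ z, z ∈ Z ↔ (∀ b ∈ B, b * z = z * b) ∧ z ∈ B := by
    intro z
    rw [hZdef, Subgroup.mem_inf, Subgroup.mem_centralizer_iff]
    exact Iff.rfl
  -- the element `g`
  obtain ⟨g₀, hg₀C, hg₀B⟩ := SetLike.not_le_iff_exists.mp hC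
  have hRp : IsPGroup p R := IsPGroup.of_card hn
  obtain ⟨k, hk⟩ := hRp g₀
  have hex : ∃ j, g₀ ^ p ^ j ∈ B := ⟨k, hk ▸ B.one_mem⟩
  obtain ⟨g, hgC, hgB, hgp⟩ : ∃ g ∈ Subgroup.centralizer (B : Set R), g ∉ B ∧ g ^ p ∈ B := by
    have hj0 : Nat.find hex ≠ 0 := by
      intro h0
      have := Nat.find_spec hex
      rw [h0, pow_zero, pow_one] at this
      exact hg₀B this
    obtain ⟨j, hj⟩ := Nat.exists_eq_succ_of_ne_zero hj0
    refine ⟨g₀ ^ p ^ j, Subgroup.pow_mem _ hg₀C _, ?_, ?_⟩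
    · exact Nat.find_min hex (by omega : j < Nat.find hex)
    · have := Nat.find_spec hex
      rw [hj, pow_succ, pow_mul] at this
      exact this
  have hgcomm : ∀ b ∈ B, b * g = g * b := fun b hb => Subgroup.mem_centralizer_iff.mp hgC b hb
  have hgi : ∀ (i : ℤ) (b : R), b ∈ B → b * g ^ i = g ^ i * b := fun i b hb =>
    (Commute.zpow_right (hgcomm b hb) i).eq
  have hgpZ : g ^ p ∈ Z := by
    rw [hZmem]
    refine ⟨fun b hb => ?_, hgp⟩
    exact (Commute.pow_right (hgcomm b hb) p).eq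
  -- the subgroup `F = B ⟨g⟩`
  let F : Subgroup R :=
    { carrier := {x | ∃ b ∈ B, ∃ i : ℤ, x = b * g ^ i}
      one_mem' := ⟨1, B.one_mem, 0, by simp⟩
      mul_mem' := by
        rintro x y ⟨b, hb, i, rfl⟩ ⟨b', hb', j, rfl⟩
        refine ⟨b * b', B.mul_mem hb hb', i + j, ?_⟩
        rw [zpow_add]
        calc b * g ^ i * (b' * g ^ j) = b * (g ^ i * b') * g ^ j := by group
          _ = b * (b' * g ^ i) * g ^ j := by rw [hgi i b' hb']
          _ = b * b' * (g ^ i * g ^ j) := by group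
      inv_mem' := by
        rintro x ⟨b, hb, i, rfl⟩
        refine ⟨b⁻¹, B.inv_mem hb, -i, ?_⟩
        rw [mul_inv_rev, ← zpow_neg, hgi (-i) b⁻¹ (B.inv_mem hb)] }
  have hFmem : ∀ x, x ∈ F ↔ ∃ b ∈ B, ∃ i : ℤ, x = b * g ^ i := fun x => Iff.rfl
  have hBF : B ≤ F := fun b hb => ⟨b, hb, 0, by simp⟩
  have hgF : g ∈ F := ⟨1, B.one_mem, 1, by simp⟩
  have hZF : ∀ z ∈ Z, ∀ x ∈ F, z * x = x * z := by
    rintro z hz x ⟨b, hb, i, rfl⟩
    obtain ⟨hz1, hz2⟩ := (hZmem z).mp hz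
    calc z * (b * g ^ i) = (z * b) * g ^ i := by group
      _ = (b * z) * g ^ i := by rw [hz1 b hb]
      _ = b * (z * g ^ i) := by group
      _ = b * (g ^ i * z) := by rw [hgi i z hz2]
      _ = b * g ^ i * z := by group
  have hZp : ∀ z ∈ Z, z ^ p = 1 := by
    intro z hz
    have := pow_card_eq_one' (G := Z) (x := ⟨z, hz⟩)
    rw [hZcard] at this
    have h2 := congrArg Subtype.val this
    simpa using h2
  have hFpow : ∀ x ∈ F, x ^ p ∈ Z := by
    rintro x ⟨b, hb, i, rfl⟩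
    have hc : Commute b (g ^ i) := hgi i b hb
    rw [hc.mul_pow]
    refine Z.mul_mem (hpow b hb) ?_
    rw [← zpow_natCast, ← zpow_mul, mul_comm, zpow_mul, zpow_natCast]
    exact Z.zpow_mem hgpZ i
  have hFmul : ∀ x ∈ F, ∀ y ∈ F, (x * y) ^ p = x ^ p * y ^ p := by
    rintro x ⟨b, hb, i, rfl⟩ y ⟨b', hb', j, rfl⟩
    obtain ⟨c, hcdef⟩ : ∃ c, c = b'⁻¹ * b⁻¹ * b' * b := ⟨_, rfl⟩
    have hcZ : c ∈ Z := by
      have := hcomm b'⁻¹ b⁻¹ (B.inv_mem hb') (B.inv_mem hb)
      rw [inv_inv, inv_inv] at this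
      rw [hcdef]; exact this
    have hxF : b * g ^ i ∈ F := ⟨b, hb, i, rfl⟩
    have hyF : b' * g ^ j ∈ F := ⟨b', hb', j, rfl⟩
    have h1 : b' * b = b * b' * c := by rw [hcdef]; group
    have h2 : c * (g ^ i * g ^ j) = (g ^ i * g ^ j) * c := by
      rw [← zpow_add]
      exact hgi (i + j) c ((hZmem c).mp hcZ).2
    apply Cfsg.Agent.Helper49.mul_pow_prime_of_central hpp hp (c := c)
    · calc b' * g ^ j * (b * g ^ i) = b' * (g ^ j * b) * g ^ i := by group
        _ = b' * (b * g ^ j) * g ^ i := by rw [hgi j b hb]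
        _ = (b' * b) * (g ^ i * g ^ j) := by rw [← zpow_add, add_comm, zpow_add]; group
        _ = b * b' * c * (g ^ i * g ^ j) := by rw [h1]
        _ = b * b' * ((g ^ i * g ^ j) * c) := by rw [mul_assoc (b * b'), h2]
        _ = b * (b' * g ^ i) * g ^ j * c := by group
        _ = b * (g ^ i * b') * g ^ j * c := by rw [hgi i b' hb']
        _ = b * g ^ i * (b' * g ^ j) * c := by group
    · exact hZF c hcZ _ hxF
    · exact hZF c hcZ _ hyF
    · exact hZp c hcZ
  -- the `p`-th power homomorphism on `F`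
  let φ : F →* R := MonoidHom.mk' (fun x => (x : R) ^ p) (by
    intro x y
    exact hFmul x x.2 y y.2)
  have hrange : φ.range ≤ Z := by
    rintro _ ⟨x, rfl⟩
    exact hFpow x x.2
  have hrc : Nat.card φ.range ≤ p := hZcard ▸ Subgroup.card_le_of_le hrange
  have hker : Nat.card φ.ker ≤ p ^ 2 := by
    have h1 := hS (φ.ker.map F.subtype) (by
      rintro _ ⟨x, hx, rfl⟩
      exact MonoidHom.mem_ker.mp hx)
    rwa [Subgroup.card_map_of_injective F.subtype_injective] at h1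
  have hFcard : Nat.card F = Nat.card φ.ker * Nat.card φ.range := by
    rw [← Subgroup.index_ker, Subgroup.card_mul_index]
  have hFge : p ^ 4 ≤ Nat.card F := by
    have hdvd : Nat.card F ∣ p ^ n := hn ▸ Subgroup.card_subgroup_dvd_card F
    obtain ⟨m, hm, hFm⟩ := (Nat.dvd_prime_pow hpp).mp hdvd
    have hlt : Nat.card B < Nat.card F :=
      Cfsg.Agent.Helper29.card_lt_card_of_lt' (lt_of_le_of_ne hBF (by
        intro h
        exact hgB (h ▸ hgF)))
    rw [hB, hFm] at hlt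
    have : 3 < m := (Nat.pow_lt_pow_iff_right hpp.one_lt).mp hlt
    rw [hFm]
    exact Nat.pow_le_pow_right hpp.pos this
  have hle : Nat.card F ≤ p ^ 2 * p := by rw [hFcard]; exact Nat.mul_le_mul hker hrc
  have h34 : p ^ 2 * p < p ^ 4 := by
    have : p ^ 4 = p ^ 2 * p * p := by ring
    rw [this]
    exact lt_mul_of_one_lt_right (Nat.mul_pos (pow_pos hpp.pos 2) hpp.pos) hpp.one_lt
  omega

end Cfsg.Agent.Helper61
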