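import Mathlib
import Cfsg.Agent.Helper98.C3A

set_option autoImplicit false
set_option linter.unusedSectionVars false
set_option linter.unusedVariables false
set_option linter.unusedSimpArgs false
set_option linter.style.haveILetI false

namespace Cfsg.Agent.Helper61

open Cfsg.Agent.Helper98 Module

section C3Case2
variable {F K V : Type*} [Field F] [Field K] [Algebra F K] [AddCommGroup V] [Module F V]
  [Module K V] [IsScalarTower F K V]

/-- the field with four elements over the field with two elements -/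
theorem c3c2_field [Fintype F] [Finite K] (hF : Fintype.card F = 2) (hK : finrank F K = 2) :
    (2 : K) = 0 ∧ (∀ s : F, s = 0 ∨ s = 1) ∧ (∀ k : K, k ^ 4 = k) ∧
      ∃ ω : K, ω ^ 2 = ω + 1 ∧ ∀ k : K, k = 0 ∨ k = 1 ∨ k = ω ∨ k = ω + 1 := by
  classical
  haveI : Fintype K := Fintype.ofFinite K
  have h2F : (2 : F) = 0 := by
    have h := Nat.cast_card_eq_zero F
    rw [hF] at h
    exact_mod_cast h
  have h2K : (2 : K) = 0 := by
    have e : (2 : K) = algebraMap F K 2 := (map_ofNat (algebraMap F K) 2).symm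
    rw [e, h2F, map_zero]
  have hFc : ∀ s : F, s = 0 ∨ s = 1 := by
    intro s
    have hcard : ({0, 1} : Finset F).card = 2 := by
      rw [Finset.card_insert_of_notMem, Finset.card_singleton]
      simp
    have huniv : ({0, 1} : Finset F) = Finset.univ := by
      apply Finset.eq_univ_of_card
      rw [hcard, hF]
    have hs : s ∈ ({0, 1} : Finset F) := by rw [huniv]; exact Finset.mem_univ s
    simpa using hs
  haveI : Module.Finite F K := Module.Finite.of_finite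
  have hcardK : Fintype.card K = 4 := by
    have := Module.card_eq_pow_finrank (K := F) (V := K)
    rw [hF, hK] at this
    exact this
  have hk4 : ∀ k : K, k ^ 4 = k := by
    intro k
    have := FiniteField.pow_card k
    rw [hcardK] at this
    exact this
  -- an element outside {0, 1}
  obtain ⟨ω, hω0, hω1⟩ : ∃ ω : K, ω ≠ 0 ∧ ω ≠ 1 := by
    by_contra hcon
    push Not at hcon
    have hsub : (Finset.univ : Finset K) ⊆ {0, 1} := by
      intro k _
      by_cases h : k = 0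
      · simp [h]
      · simp [hcon k h]
    have := Finset.card_le_card hsub
    have h2 : (({0, 1} : Finset K)).card ≤ 2 := Finset.card_le_two
    rw [Finset.card_univ, hcardK] at this
    omega
  have hω3 : ω ^ 3 = 1 := by
    have := FiniteField.pow_card_sub_one_eq_one ω hω0
    rw [hcardK] at this
    exact this
  have hω2 : ω ^ 2 = ω + 1 := by
    have h : (ω - 1) * (ω ^ 2 + ω + 1) = 0 := by linear_combination hω3
    rcases mul_eq_zero.mp h with h | h
    · exact absurd (sub_eq_zero.mp h) hω1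
    · linear_combination h - (ω + 1) * h2K
  refine ⟨h2K, hFc, hk4, ω, hω2, ?_⟩
  have hd1 : (0 : K) ≠ ω := Ne.symm hω0
  have hd2 : (0 : K) ≠ ω + 1 := by
    intro h
    apply hω1
    linear_combination -h - h2K
  have hd3 : (1 : K) ≠ ω := Ne.symm hω1
  have hd4 : (1 : K) ≠ ω + 1 := by
    intro h
    apply hω0
    linear_combination -h
  have hd5 : ω ≠ ω + 1 := by
    intro h
    exact one_ne_zero (α := K) (by linear_combination -h)
  have hcard : ({0, 1, ω, ω + 1} : Finset K).card = 4 := by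
    rw [Finset.card_insert_of_notMem, Finset.card_insert_of_notMem, Finset.card_insert_of_notMem,
      Finset.card_singleton]
    · simp [hd5]
    · simp [hd3, hd4]
    · simp [hd1, hd2]
  have huniv : ({0, 1, ω, ω + 1} : Finset K) = Finset.univ := by
    apply Finset.eq_univ_of_card
    rw [hcard, hcardK]
  intro k
  have hk : k ∈ ({0, 1, ω, ω + 1} : Finset K) := by rw [huniv]; exact Finset.mem_univ k
  simpa using hk

/-- coordinates with respect to two independent vectors of a two-dimensional space -/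
theorem c3c2_coords (hV : finrank K V = 2) (x y : V) (hx : x ≠ 0) (hy : ∀ k : K, y ≠ k • x) :
    ∃ χ0 χ1 : V →ₗ[K] K, χ0 x = 1 ∧ χ0 y = 0 ∧ χ1 x = 0 ∧ χ1 y = 1 ∧
      ∀ v, v = χ0 v • x + χ1 v • y := by
  obtain ⟨χ1, h1x, h1y⟩ := c3_exists_dual (K := K) x y hy
  have hy' : ∀ k : K, x ≠ k • y := by
    intro k hk
    have hk0 : k ≠ 0 := by
      rintro rfl
      exact hx (by rw [hk, zero_smul])
    apply hy k⁻¹
    rw [hk, smul_smul, inv_mul_cancel₀ hk0, one_smul]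
  obtain ⟨χ0, h0y, h0x⟩ := c3_exists_dual (K := K) y x hy'
  refine ⟨χ0, χ1, h0x, h0y, h1x, h1y, ?_⟩
  haveI : Module.Finite K V := Module.finite_of_finrank_pos (by omega)
  have hfr : finrank K V = finrank K (K × K) := by
    rw [hV, Module.finrank_prod, Module.finrank_self]
  have hsurj : Function.Surjective (χ0.prod χ1) := by
    rintro ⟨a, b⟩
    refine ⟨a • x + b • y, ?_⟩
    simp [h0x, h0y, h1x, h1y]
  have hinj : Function.Injective (χ0.prod χ1) :=
    (LinearMap.injective_iff_surjective_of_finrank_eq_finrank hfr).mpr hsurj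
  intro v
  apply hinj
  simp [h0x, h0y, h1x, h1y]

/-- an additive map sending `ω • c` into `K • w c` sends the whole line `K • c` into `K • w c` -/
theorem c3c2_line (ω : K) (hcases : ∀ k : K, k = 0 ∨ k = 1 ∨ k = ω ∨ k = ω + 1)
    (w : Module.End F V) (c : V) (k₁ : K) (h : w (ω • c) = k₁ • w c) :
    ∀ k : K, ∃ k' : K, w (k • c) = k' • w c := by
  intro k
  rcases hcases k with rfl | rfl | rfl | rfl
  · exact ⟨0, by simp⟩
  · exact ⟨1, by simp⟩
  · exact ⟨k₁, h⟩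
  · exact ⟨k₁ + 1, by rw [add_smul, map_add, h, one_smul, add_smul, one_smul]⟩

/-- a semilinear map that is `ω`-linear at one vector is `K`-linear -/
theorem c3c2_lin (ω : K) (hcases : ∀ k : K, k = 0 ∨ k = 1 ∨ k = ω ∨ k = ω + 1)
    (w : Module.End F V) (hw : c3_N K w) (c : V) (hc : w c ≠ 0) (h : w (ω • c) = ω • w c) :
    ∀ (k : K) (v : V), w (k • v) = k • w v := by
  obtain ⟨k', hk'⟩ := hw.2 ω
  have hkω : k' = ω := by
    have e := hk' c
    rw [h] at e
    have e2 : (ω - k') • w c = 0 := by rw [sub_smul, e, sub_self]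
    rcases smul_eq_zero.mp e2 with h0 | h0
    · exact (sub_eq_zero.mp h0).symm
    · exact absurd h0 hc
  rw [hkω] at hk'
  intro k v
  rcases hcases k with rfl | rfl | rfl | rfl
  · simp
  · simp
  · exact hk' v
  · rw [add_smul, map_add, hk', one_smul, add_smul, one_smul]

/-- PIECE D2 of CALL S5886 -/
theorem c3_422_case2 [Fintype F] [Finite K] (hF : Fintype.card F = 2) (hK : finrank F K = 2)
    (hV : finrank K V = 2) {P : Module.End F V → Prop} (hP : C3P P)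
    (hN : ∀ f : Module.End F V, c3_N K f → P f)
    (H2 : ∀ (w w' : Module.End F V), P w → w * w' = 1 → w' * w = 1 → ∀ c : V, c ≠ 0 →
      (∀ k : K, ∃ k' : K, w (k • c) = k' • w c) → c3_N K w)
    (f₀ g₀ : Module.End F V) (hf₀ : P f₀) (h1 : f₀ * g₀ = 1) (h2 : g₀ * f₀ = 1) : c3_N K f₀ := by
  classical
  obtain ⟨h2K, hFc, hk4, ω, hω, hcases⟩ := c3c2_field (K := K) hF hK
  have hVV : ∀ v : V, v + v = 0 := fun v => by
    rw [← two_smul K v, h2K, zero_smul]
  have hfg : ∀ v, f₀ (g₀ v) = v := fun v => by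
    have := congrArg (fun f : Module.End F V => f v) h1
    simpa [Module.End.mul_apply] using this
  have hgf : ∀ v, g₀ (f₀ v) = v := fun v => by
    have := congrArg (fun f : Module.End F V => f v) h2
    simpa [Module.End.mul_apply] using this
  have hPg : P g₀ := hP.inv f₀ g₀ hf₀ h1 h2
  have hω0 : ω ≠ 0 := by
    rintro rfl
    exact one_ne_zero (α := K) (by linear_combination -hω)
  have hωω : ω * ω = ω + 1 := by rw [← hω]; ring
  have hω3 : ω ^ 3 = 1 := by linear_combination (ω + 1) * hω + ω * h2K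
  obtain ⟨c, hc⟩ : ∃ c : V, c ≠ 0 := by
    obtain ⟨x0, hx0⟩ := c3_exists_notMem (K := K) (by omega : 2 ≤ finrank K V) (0 : V)
    exact ⟨x0, by simpa using hx0 0⟩
  obtain ⟨x, hxdef⟩ : ∃ x : V, x = f₀ c := ⟨_, rfl⟩
  obtain ⟨y, hydef⟩ : ∃ y : V, y = f₀ (ω • c) := ⟨_, rfl⟩
  have hgx : g₀ x = c := by rw [hxdef, hgf]
  have hgy : g₀ y = ω • c := by rw [hydef, hgf]
  have hx : x ≠ 0 := fun h => hc (by rw [← hgx, h, map_zero])
  by_cases hy : ∃ k₀ : K, y = k₀ • x
  · obtain ⟨k₀, hk₀⟩ := hy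
    rw [hxdef, hydef] at hk₀
    exact H2 f₀ g₀ hf₀ h1 h2 c hc (c3c2_line ω hcases f₀ c k₀ hk₀)
  push Not at hy
  obtain ⟨χ0, χ1, hχ0x, hχ0y, hχ1x, hχ1y, hχ⟩ := c3c2_coords hV x y hx hy
  -- the `K`-linear map `σ : x ↦ y ↦ x + y`
  obtain ⟨σ, hσ, hσlin⟩ : ∃ σ : Module.End F V, (∀ v, σ v = χ1 v • x + (χ0 v + χ1 v) • y) ∧
      ∀ (k : K) (v : V), σ (k • v) = k • σ v := by
    refine ⟨(χ1.smulRight x + (χ0 + χ1).smulRight y).restrictScalars F, fun v => ?_, fun k v => ?_⟩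
    · simp
    · exact (χ1.smulRight x + (χ0 + χ1).smulRight y).map_smul k v
  have hσ0 : ∀ v, χ0 (σ v) = χ1 v := fun v => by
    rw [hσ]; simp [hχ0x, hχ0y]
  have hσ1 : ∀ v, χ1 (σ v) = χ0 v + χ1 v := fun v => by
    rw [hσ]; simp [hχ1x, hχ1y]
  have hσx : σ x = y := by rw [hσ, hχ1x, hχ0x]; simp
  have hσy : σ y = x + y := by rw [hσ, hχ1y, hχ0y]; simp
  have hσ3 : ∀ v, σ (σ (σ v)) = v := by
    intro v
    rw [hσ (σ (σ v))]
    simp only [hσ0, hσ1]
    conv_rhs => rw [hχ v]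
    have e1 : χ1 v + (χ0 v + χ1 v) = χ0 v := by linear_combination χ1 v * h2K
    have e2 : χ0 v + χ1 v + (χ1 v + (χ0 v + χ1 v)) = χ1 v := by
      linear_combination (χ0 v + χ1 v) * h2K
    rw [e2, e1]
  -- the Frobenius map `φ`
  obtain ⟨φ, hφ⟩ : ∃ φ : Module.End F V, ∀ v, φ v = (χ0 v) ^ 2 • x + (χ1 v) ^ 2 • y := by
    refine ⟨{ toFun := fun v => (χ0 v) ^ 2 • x + (χ1 v) ^ 2 • y
              map_add' := ?_
              map_smul' := ?_ }, fun v => rfl⟩
    · intro v v'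
      have e0 : (χ0 v + χ0 v') ^ 2 = (χ0 v) ^ 2 + (χ0 v') ^ 2 := by
        linear_combination (χ0 v * χ0 v') * h2K
      have e1 : (χ1 v + χ1 v') ^ 2 = (χ1 v) ^ 2 + (χ1 v') ^ 2 := by
        linear_combination (χ1 v * χ1 v') * h2K
      simp only [map_add]
      rw [e0, e1, add_smul, add_smul]
      abel
    · intro s v
      rcases hFc s with rfl | rfl
      · simp
      · simp
  have hφ0 : ∀ v, χ0 (φ v) = (χ0 v) ^ 2 := fun v => by
    rw [hφ]; simp [hχ0x, hχ0y]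
  have hφ1 : ∀ v, χ1 (φ v) = (χ1 v) ^ 2 := fun v => by
    rw [hφ]; simp [hχ1x, hχ1y]
  have hφx : φ x = x := by rw [hφ, hχ1x, hχ0x]; simp
  have hφy : φ y = y := by rw [hφ, hχ1y, hχ0y]; simp
  have hφ2 : ∀ v, φ (φ v) = v := by
    intro v
    rw [hφ (φ v), hφ0, hφ1]
    conv_rhs => rw [hχ v]
    rw [← pow_mul, ← pow_mul, hk4, hk4]
  have hφlin : ∀ (k : K) (v : V), φ (k • v) = k ^ 2 • φ v := by
    intro k v
    rw [hφ, hφ, map_smul, map_smul, smul_eq_mul, smul_eq_mul, mul_pow, mul_pow, smul_add,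
      smul_smul, smul_smul]
  have hσφ : ∀ v, σ (φ v) = φ (σ v) := by
    intro v
    rw [hσ (φ v), hφ0, hφ1, hφ (σ v), hσ0, hσ1]
    have e : (χ0 v + χ1 v) ^ 2 = (χ0 v) ^ 2 + (χ1 v) ^ 2 := by
      linear_combination (χ0 v * χ1 v) * h2K
    rw [e]
  have hσN : c3_N K σ := by
    refine c3_N_of_lin σ (σ * σ) ?_ ?_ hσlin
    · ext v; simp [Module.End.mul_apply, hσ3]
    · ext v; simp [Module.End.mul_apply, hσ3]
  have hφN : c3_N K φ := by
    refine ⟨⟨φ, ?_, ?_⟩, fun k => ⟨k ^ 2, fun v => hφlin k v⟩⟩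
    · ext v; simp [Module.End.mul_apply, hφ2]
    · ext v; simp [Module.End.mul_apply, hφ2]
  -- the conjugates `σ' = g₀ σ f₀` and `φ' = g₀ φ f₀`
  obtain ⟨σ', hσ'⟩ : ∃ σ' : Module.End F V, σ' = g₀ * σ * f₀ := ⟨_, rfl⟩
  obtain ⟨φ', hφ'⟩ : ∃ φ' : Module.End F V, φ' = g₀ * φ * f₀ := ⟨_, rfl⟩
  have hσ'a : ∀ v, σ' v = g₀ (σ (f₀ v)) := fun v => by rw [hσ']; rfl
  have hφ'a : ∀ v, φ' v = g₀ (φ (f₀ v)) := fun v => by rw [hφ']; rfl
  have hPσ' : P σ' := by
    rw [hσ']; exact hP.mul _ _ (hP.mul _ _ hPg (hN σ hσN)) hf₀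
  have hPφ' : P φ' := by
    rw [hφ']; exact hP.mul _ _ (hP.mul _ _ hPg (hN φ hφN)) hf₀
  have hσ'3 : ∀ v, σ' (σ' (σ' v)) = v := by
    intro v
    rw [hσ'a, hσ'a, hσ'a, hfg, hfg, hσ3, hgf]
  have hφ'2 : ∀ v, φ' (φ' v) = v := by
    intro v
    rw [hφ'a, hφ'a, hfg, hφ2, hgf]
  have hσ'φ' : ∀ v, σ' (φ' v) = φ' (σ' v) := by
    intro v
    rw [hσ'a, hφ'a, hfg, hσφ, hφ'a, hσ'a, hfg]
  have hσ'c : σ' c = ω • c := by rw [hσ'a, ← hxdef, hσx, hgy]
  have hσ'ωc : σ' (ω • c) = ω • σ' c := by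
    rw [hσ'a, ← hydef, hσy, map_add, hgx, hgy, hσ'c, smul_smul, hωω, add_smul, one_smul, add_comm]
  have hφ'c : φ' c = c := by rw [hφ'a, ← hxdef, hφx, hgx]
  have hφ'ωc : φ' (ω • c) = ω • φ' c := by
    rw [hφ'a, ← hydef, hφy, hgy, hφ'c]
  have hωc : ω • c ≠ 0 := smul_ne_zero hω0 hc
  have hσ'N : c3_N K σ' := by
    refine H2 σ' (σ' * σ') hPσ' ?_ ?_ c hc (c3c2_line ω hcases σ' c ω hσ'ωc)
    · ext v; simp [Module.End.mul_apply, hσ'3]
    · ext v; simp [Module.End.mul_apply, hσ'3]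
  have hφ'N : c3_N K φ' := by
    refine H2 φ' φ' hPφ' ?_ ?_ c hc (c3c2_line ω hcases φ' c ω hφ'ωc)
    · ext v; simp [Module.End.mul_apply, hφ'2]
    · ext v; simp [Module.End.mul_apply, hφ'2]
  have hσ'lin : ∀ (k : K) (v : V), σ' (k • v) = k • σ' v :=
    c3c2_lin ω hcases σ' hσ'N c (by rw [hσ'c]; exact hωc) hσ'ωc
  have hφ'lin : ∀ (k : K) (v : V), φ' (k • v) = k • φ' v :=
    c3c2_lin ω hcases φ' hφ'N c (by rw [hφ'c]; exact hc) hφ'ωc
  -- a vector moved by `φ'`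
  obtain ⟨v0, hv0def⟩ : ∃ v0 : V, v0 = g₀ (ω • x) := ⟨_, rfl⟩
  have hφ'v0 : φ' v0 ≠ v0 := by
    intro h
    rw [hφ'a, hv0def, hfg, hφlin, hφx] at h
    have h' := congrArg f₀ h
    rw [hfg, hfg, hω, add_smul, one_smul] at h'
    exact hx (by simpa using h')
  obtain ⟨d, hd⟩ : ∃ d : V, d = φ' v0 + v0 := ⟨_, rfl⟩
  have hd0 : d ≠ 0 := by
    intro h
    rw [hd] at h
    exact hφ'v0 (add_right_cancel (h.trans (hVV v0).symm))
  have hφ'v0' : φ' v0 = v0 + d := by
    rw [hd, add_comm (φ' v0) v0, ← add_assoc, hVV, zero_add]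
  have hφ'd : φ' d = d := by
    rw [hd, map_add, hφ'2, add_comm]
  have hv0c : ∀ k : K, v0 ≠ k • c := by
    intro k hk
    apply hφ'v0
    rw [hk, hφ'lin, hφ'c]
  obtain ⟨ψ0, ψ1, hψ0c, hψ0v, hψ1c, hψ1v, hψ⟩ := c3c2_coords hV c v0 hc hv0c
  -- `d` is a multiple of `c`
  obtain ⟨α, hdα, hα⟩ : ∃ α : K, d = α • c ∧ α ≠ 0 := by
    have hβ : ψ1 d = 0 := by
      have e1 : φ' d = ψ0 d • c + ψ1 d • (v0 + d) := by
        conv_lhs => rw [hψ d]
        rw [map_add, hφ'lin, hφ'lin, hφ'c, hφ'v0']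
      rw [hφ'd] at e1
      have e2 : ψ1 d • d = 0 := by
        have e3 : d = ψ0 d • c + ψ1 d • v0 := hψ d
        rw [smul_add, ← add_assoc, ← e3] at e1
        exact add_left_cancel (a := d) (by rw [add_zero]; exact e1.symm)
      rcases smul_eq_zero.mp e2 with h | h
      · exact h
      · exact absurd h hd0
    have h1 : d = ψ0 d • c := by
      have := hψ d
      rw [hβ, zero_smul, add_zero] at this
      exact this
    refine ⟨ψ0 d, h1, ?_⟩
    intro h
    rw [h, zero_smul] at h1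
    exact hd0 h1
  have hφ'v0'' : φ' v0 = v0 + α • c := by rw [hφ'v0', hdα]
  -- `σ' v0 = p • c + q • v0` with `q = ω` and `p = 0`
  obtain ⟨p, q, hσ'v0⟩ : ∃ p q : K, σ' v0 = p • c + q • v0 := ⟨_, _, hψ (σ' v0)⟩
  have hq : q = ω := by
    have e1 : φ' (σ' v0) = p • c + q • (v0 + α • c) := by
      rw [hσ'v0, map_add, hφ'lin, hφ'lin, hφ'c, hφ'v0'']
    have e2 : σ' (φ' v0) = p • c + q • v0 + α • ω • c := by
      rw [hφ'v0'', map_add, hσ'lin, hσ'c, hσ'v0]
    have e3 := congrArg ψ0 (e2.symm.trans ((hσ'φ' v0).trans e1))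
    simp only [map_add, map_smul, smul_eq_mul, hψ0c, hψ0v, mul_one, mul_zero, add_zero,
      zero_add] at e3
    have e4 : α * (q - ω) = 0 := by linear_combination -e3
    rcases mul_eq_zero.mp e4 with h | h
    · exact absurd h hα
    · exact sub_eq_zero.mp h
  rw [hq] at hσ'v0
  have hp : p = 0 := by
    have e1 : σ' (σ' v0) = (ω * ω) • v0 := by
      rw [hσ'v0, map_add, hσ'lin, hσ'lin, hσ'c, hσ'v0, smul_add, smul_smul, smul_smul, smul_smul,
        ← add_assoc, mul_comm ω p, hVV, zero_add]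
    have e2 : σ' (σ' (σ' v0)) = (ω * ω * p) • c + (ω * ω * ω) • v0 := by
      rw [e1, hσ'lin, hσ'v0, smul_add, smul_smul, smul_smul]
    rw [hσ'3] at e2
    have e3 := congrArg ψ0 e2
    simp only [map_add, map_smul, smul_eq_mul, hψ0c, hψ0v, mul_one, mul_zero, add_zero,
      zero_add] at e3
    have hωω0 : ω * ω ≠ 0 := mul_ne_zero hω0 hω0
    rcases mul_eq_zero.mp e3.symm with h | h
    · exact absurd h hωω0
    · exact h
  subst hp
  rw [zero_smul, zero_add] at hσ'v0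
  -- `σ'` is the scalar `ω`
  have hσ'sc : ∀ v, σ' v = ω • v := by
    intro v
    conv_lhs => rw [hψ v]
    conv_rhs => rw [hψ v]
    rw [map_add, hσ'lin, hσ'lin, hσ'c, hσ'v0, smul_add, smul_comm ω (ψ0 v) c,
      smul_comm ω (ψ1 v) v0]
  have hσf : ∀ v, σ (f₀ v) = f₀ (ω • v) := by
    intro v
    rw [← hσ'sc v, hσ'a, hfg]
  -- an eigenvector of `σ`
  obtain ⟨e₁, he₁⟩ : ∃ e₁ : V, e₁ = x + ω • y := ⟨_, rfl⟩
  have hσe : σ e₁ = ω • e₁ := by
    rw [he₁, map_add, hσlin, hσx, hσy, smul_add, smul_add, smul_smul, hωω, add_smul, one_smul]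
    abel
  have he₁0 : e₁ ≠ 0 := by
    intro h
    have := congrArg χ0 h
    rw [he₁] at this
    simp [hχ0x, hχ0y] at this
  have hv₁ : g₀ e₁ ≠ 0 := by
    intro h
    apply he₁0
    rw [← hfg e₁, h, map_zero]
  have hfin : f₀ (ω • g₀ e₁) = ω • f₀ (g₀ e₁) := by
    rw [← hσf, hfg, hσe]
  exact H2 f₀ g₀ hf₀ h1 h2 (g₀ e₁) hv₁ (c3c2_line ω hcases f₀ (g₀ e₁) ω hfin)

end C3Case2

end Cfsg.Agent.Helper61
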