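import Cfsg.Agent.Helper61.C9BAS
import Cfsg.Agent.Helper78.BG157HC

/-!
# CALL S1376 (helper1), piece TA: `c9_exA` (helper61)
-/

set_option autoImplicit false

namespace Cfsg.Agent.Helper61

open Cfsg Subgroup
open Cfsg.Agent.Helper1 (C9)

universe u

variable {G : Type u} [Group G] [Finite G]

/-- In the setting `C9`, `M ⊓ L` is a Hall `σ(M)'`-subgroup of `M`. -/
theorem c9ta_hall (hG : IsMinSimpleOddOrder G) {M N K U L : Subgroup G} {x : G}
    (h : C9 M N K U L x) : IsPiHallOf (sigma M)ᶜ (M ⊓ L) M := by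
  have hbas := c9_basic hG h
  have hS := (Cfsg.Agent.S1350.result hG M h.hM).1
  refine ⟨inf_le_left, fun p hp hpd => (hbas.2.2.2.2.2.2.1 p hp hpd).2, ?_⟩
  intro p hp hpc hpd
  have hcard := Cfsg.Agent.Helper23.card_of_isComplIn _ _ _ h.hE
  have hrel : (M ⊓ L).relIndex M * Nat.card ↥(M ⊓ L) = Nat.card M := by
    rw [← Nat.card_congr (Subgroup.subgroupOfEquivOfLe (inf_le_left : M ⊓ L ≤ M)).toEquiv, mul_comm]
    exact Subgroup.card_mul_index ((M ⊓ L).subgroupOf M)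
  have hri : (M ⊓ L).relIndex M = Nat.card ↥(sigmaCore M) := by
    have h3 : (M ⊓ L).relIndex M * Nat.card ↥(M ⊓ L)
        = Nat.card ↥(sigmaCore M) * Nat.card ↥(M ⊓ L) := by rw [hrel, hcard, mul_comm]
    exact Nat.eq_of_mul_eq_mul_right Nat.card_pos h3
  rw [hri] at hpd
  exact hpc (hS.2.1 p hp hpd)

/-- TA. `r ∈ τ₂(M)`: `¬ PRankLE r 1 M` gives an elementary abelian `B ≤ M` with `r < |B|`, and
`PRankLE r 2 M` gives `|B| ≤ r²`; `|B|` is a power of `r`, so `|B| = r²`.  `r ∉ σ(M)`, `M ⊓ L` is a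
Hall `σ(M)'`-subgroup of `M` (`h.hE` + S1350), so `Helper78.bg157_hall_conj` conjugates `B` into it. -/
theorem c9_exA (hG : IsMinSimpleOddOrder G) {M N K U L : Subgroup G} {x : G}
    (h : C9 M N K U L x) {r : ℕ} (hr : r ∈ tau2 M) :
    ∃ A : Subgroup G, A ≤ M ⊓ L ∧ IsElementaryAbelian r A ∧ Nat.card A = r ^ 2 := by
  obtain ⟨hrp, hrσ, hr2, hr1⟩ := hr
  unfold PRankLE at hr1
  push Not at hr1
  obtain ⟨B, hBc, hBp, hBcard⟩ := hr1
  have hB2 := hr2 B hBc hBp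
  have hBpg : IsPGroup r B := fun g => ⟨1, by
    rw [pow_one]; exact Subtype.ext (by simpa using hBp g g.2)⟩
  have := Fact.mk hrp
  obtain ⟨n, hn⟩ := IsPGroup.iff_card.1 hBpg
  have hn2 : n = 2 := by
    rw [hn] at hBcard hB2
    have h1 : n ≤ 2 := (Nat.pow_le_pow_iff_right hrp.one_lt).1 hB2
    have h2 : 1 < n := by
      by_contra hc
      push Not at hc
      exact absurd (Nat.pow_le_pow_right hrp.pos hc) (not_le.2 hBcard)
    omega
  subst hn2
  have hB'M : B.map M.subtype ≤ M := Subgroup.map_subtype_le _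
  have hB'card : Nat.card ↥(B.map M.subtype) = r ^ 2 := by
    rw [Subgroup.card_map_of_injective M.subtype_injective, hn]
  have hHall := c9ta_hall hG h
  obtain ⟨m, hm, hle⟩ := Cfsg.Agent.Helper78.bg157_hall_conj hG h.hM hHall hB'M (by
    intro p hp hpd
    rw [hB'card] at hpd
    have : p = r := (Nat.prime_dvd_prime_iff_eq hp hrp).1 (hp.dvd_of_dvd_pow hpd)
    rw [this]; exact hrσ)
  refine ⟨(B.map M.subtype).map (MulAut.conj m).toMonoidHom, hle, ⟨?_, ?_⟩, ?_⟩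
  · refine ⟨⟨fun a b => Subtype.ext ?_⟩⟩
    obtain ⟨a', ha', hae⟩ := a.2
    obtain ⟨b', hb', hbe⟩ := b.2
    obtain ⟨a'', ha'', rfl⟩ := ha'
    obtain ⟨b'', hb'', rfl⟩ := hb'
    have h1 : (⟨a'', ha''⟩ : ↥B) * ⟨b'', hb''⟩ = ⟨b'', hb''⟩ * ⟨a'', ha''⟩ := mul_comm' _ _
    have h2 : a'' * b'' = b'' * a'' := congrArg Subtype.val h1
    show (a : G) * (b : G) = (b : G) * (a : G)
    rw [← hae, ← hbe, ← map_mul, ← map_mul, ← map_mul, ← map_mul, h2]
  · rintro _ ⟨y, ⟨y', hy', rfl⟩, rfl⟩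
    rw [← map_pow, ← map_pow, hBp y' hy', map_one, map_one]
  · rw [Subgroup.card_map_of_injective (MulAut.conj m).injective, hB'card]

end Cfsg.Agent.Helper61
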