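import Mathlib
import Cfsg.Agent.Helper91.M11Chain
import Cfsg.Agent.Helper91.Fast

/-!
# CALL S3413, piece M11D: kernel computations

The 7920 products of the transversal tables of helper91's stabilizer chain of `M₁₁`
(packed permutations), and three folds over them: the number of elements of order 5, of order 11,
and the check that every element is killed by one of the exponents 8, 6, 5, 11.
-/

set_option autoImplicit false

namespace Cfsg.Agent.Helper61

open Cfsg Cfsg.Agent.Helper91

/-- The indices `0, …, 23`. -/
def cgmM11Idx : List Nat :=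
  [0, 1, 2, 3, 4, 5, 6, 7, 8, 9, 10, 11, 12, 13, 14, 15, 16, 17, 18, 19, 20, 21, 22, 23]

/-- The table of a packed permutation. -/
def cgmM11Tab (P : Nat) : List Nat :=
  List.rec (motive := fun _ => List Nat) [] (fun i _ ih => dg P i :: ih) cgmM11Idx

/-- The packed permutation is the identity. -/
def cgmM11IsId (P : Nat) : Bool :=
  List.rec (motive := fun _ => Bool) true (fun i _ ih => Bool.and (Nat.beq (dg P i) i) ih) cgmM11Idx

/-- The packed power `P ^ (k + 1)`, where `T` is the table of `P`. -/
def cgmM11Pow (P : Nat) (T : List Nat) (k : Nat) : Nat :=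
  Nat.rec (motive := fun _ => Nat) P (fun _ ih => compP ih T) k

/-- `P ≠ 1` and `P ^ (k + 1) = 1`. -/
def cgmM11Ord (k : Nat) (P : Nat) : Bool :=
  Bool.and (Bool.not (cgmM11IsId P)) (cgmM11IsId (cgmM11Pow P (cgmM11Tab P) k))

/-- One of `P ^ 8`, `P ^ 6`, `P ^ 5`, `P ^ 11` is the identity. -/
def cgmM11OK (P : Nat) : Bool :=
  anyL [7, 5, 4, 10] (fun k => cgmM11IsId (cgmM11Pow P (cgmM11Tab P) k))

/-- The number of products of tables (one from each list, multiplied on the right of `acc`)
satisfying `f`. -/
def cgmM11Cnt (f : Nat → Bool) (Us : List (List (List Nat))) : Nat → Nat :=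
  List.rec (motive := fun _ => Nat → Nat) (fun acc => cond (f acc) 1 0)
    (fun U _ ih acc =>
      List.rec (motive := fun _ => Nat) 0 (fun T _ r => Nat.add (ih (compP acc T)) r) U) Us

/-- The transversal tables of `M₁₁`. -/
def cgmM11Us : List (List (List Nat)) := m11Levels.map (fun lv => lv.tabs)

theorem cgmM11_cnt_all : cgmM11Cnt (fun _ => true) cgmM11Us pkId = 7920 := by
  decide +kernel

theorem cgmM11_cnt5 : cgmM11Cnt (cgmM11Ord 4) cgmM11Us pkId = 1584 := by
  decide +kernel

theorem cgmM11_cnt11 : cgmM11Cnt (cgmM11Ord 10) cgmM11Us pkId = 1440 := by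
  decide +kernel

theorem cgmM11_all_ok : allProdP cgmM11OK cgmM11Us pkId = true := by
  decide +kernel

end Cfsg.Agent.Helper61
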