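import Mathlib
import Cfsg.Agent.Helper61.CGMM11Chk

/-!
# CALL S3413, piece M11D: the elements of order 5, 11 of `M₁₁`; no elements of order 10, 55
-/

set_option autoImplicit false

namespace Cfsg.Agent.Helper61

open Cfsg Cfsg.Agent.Helper91

theorem cgmM11Idx_eq : cgmM11Idx = List.range 24 := by decide

theorem cgmM11Tab_length (P : Nat) : (cgmM11Tab P).length = 24 := rfl

theorem cgmM11Tab_getD (P : Nat) {i : Nat} (hi : i < 24) : (cgmM11Tab P).getD i 0 = dg P i := by
  interval_cases i <;> rfl

theorem cgmM11IsId_eq (P : Nat) :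
    cgmM11IsId P = cgmM11Idx.all (fun i => Nat.beq (dg P i) i) := rfl

theorem cgmM11IsId_iff (P : Nat) : cgmM11IsId P = true ↔ ∀ i, i < 24 → dg P i = i := by
  rw [cgmM11IsId_eq, cgmM11Idx_eq, List.all_eq_true]
  constructor
  · intro h i hi
    exact Nat.eq_of_beq_eq_true (h i (List.mem_range.2 hi))
  · intro h i hi
    rw [h i (List.mem_range.1 hi)]
    exact Nat.beq_refl i

/-- The packed identity test is correct. -/
theorem cgmM11IsId_rep {P : Nat} {g : Equiv.Perm GolayPt} (h : Rep P g) :
    cgmM11IsId P = true ↔ g = 1 := by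
  rw [cgmM11IsId_iff]
  constructor
  · intro hall
    refine Equiv.ext fun p => ?_
    apply idx_injective
    have h1 := h (idx p) (idx_lt p)
    rw [pt_idx] at h1
    rw [← h1, hall _ (idx_lt p)]
    rfl
  · rintro rfl i hi
    rw [h i hi]
    exact idx_pt hi

/-- Composition with the table of a packed permutation. -/
theorem cgmM11_rep_comp {P Q : Nat} {g h : GolayPt → GolayPt} (hP : Rep P g) (hQ : Rep Q h) :
    Rep (compP Q (cgmM11Tab P)) (h ∘ g) := by
  intro i hi
  rw [dg_compP Q (cgmM11Tab P) (by rw [cgmM11Tab_length]; exact hi), cgmM11Tab_getD P hi, hP i hi,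
    hQ.apply]
  rfl

theorem cgmM11Pow_succ (P : Nat) (T : List Nat) (k : Nat) :
    cgmM11Pow P T (k + 1) = compP (cgmM11Pow P T k) T := rfl

/-- The packed powers are correct. -/
theorem cgmM11Pow_rep {P : Nat} {g : Equiv.Perm GolayPt} (h : Rep P g) (k : Nat) :
    Rep (cgmM11Pow P (cgmM11Tab P) k) (g ^ (k + 1) : Equiv.Perm GolayPt) := by
  induction k with
  | zero =>
    have : (g ^ (0 + 1) : Equiv.Perm GolayPt) = g := by simp
    rw [this]
    exact h
  | succ k ih =>
    rw [cgmM11Pow_succ]
    have : ((g ^ (k + 1 + 1) : Equiv.Perm GolayPt) : GolayPt → GolayPt)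
        = (g ^ (k + 1) : Equiv.Perm GolayPt) ∘ g := by
      rw [pow_succ, Equiv.Perm.coe_mul]
    rw [this]
    exact cgmM11_rep_comp h ih

/-- The test for a prime order is correct. -/
theorem cgmM11Ord_rep {P : Nat} {g : Equiv.Perm GolayPt} (h : Rep P g) (k : Nat)
    (hk : (k + 1).Prime) : cgmM11Ord k P = true ↔ orderOf g = k + 1 := by
  have : Fact (k + 1).Prime := ⟨hk⟩
  rw [orderOf_eq_prime_iff]
  have h1 := cgmM11IsId_rep h
  have h2 := cgmM11IsId_rep (cgmM11Pow_rep h k)
  unfold cgmM11Ord
  constructor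
  · intro hh
    have ha : (!cgmM11IsId P) = true ∧ cgmM11IsId (cgmM11Pow P (cgmM11Tab P) k) = true := by
      simpa using hh
    refine ⟨h2.1 ha.2, fun h' => ?_⟩
    have := h1.2 h'
    rw [this] at ha
    simp at ha
  · rintro ⟨ha, hb⟩
    have h3 : cgmM11IsId P = false := by
      by_contra hcon
      exact hb (h1.1 (by simpa using hcon))
    rw [h3, h2.2 ha]
    rfl

/-! ### The list of products -/

/-- The products of tables, one from each list, multiplied on the right of `acc`. -/
def cgmM11Prods : List (List (List Nat)) → Nat → List Nat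
  | [], acc => [acc]
  | U :: Us, acc => U.flatMap (fun T => cgmM11Prods Us (compP acc T))

theorem cgmM11Cnt_nil (f : Nat → Bool) (acc : Nat) :
    cgmM11Cnt f [] acc = cond (f acc) 1 0 := rfl

theorem cgmM11Cnt_cons (f : Nat → Bool) (U : List (List Nat)) (Us : List (List (List Nat)))
    (acc : Nat) :
    cgmM11Cnt f (U :: Us) acc =
      List.rec (motive := fun _ => Nat) 0
        (fun T _ r => Nat.add (cgmM11Cnt f Us (compP acc T)) r) U := rfl

theorem cgmM11_rec_sum (c : List Nat → Nat) (U : List (List Nat)) :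
    List.rec (motive := fun _ => Nat) 0 (fun T _ r => Nat.add (c T) r) U = (U.map c).sum := by
  induction U with
  | nil => rfl
  | cons T U ih =>
    rw [List.map_cons, List.sum_cons, ← ih]
    rfl

theorem cgmM11Cnt_eq (f : Nat → Bool) :
    ∀ (Us : List (List (List Nat))) (acc : Nat),
      cgmM11Cnt f Us acc = (cgmM11Prods Us acc).countP f := by
  intro Us
  induction Us with
  | nil =>
    intro acc
    rw [cgmM11Cnt_nil, cgmM11Prods]
    cases hf : f acc <;> simp [hf]
  | cons U Us ih =>
    intro acc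
    rw [cgmM11Cnt_cons, cgmM11_rec_sum (fun T => cgmM11Cnt f Us (compP acc T)), cgmM11Prods,
      List.countP_flatMap]
    congr 1
    apply List.map_congr_left
    intro T _
    rw [ih]
    rfl

/-- Every product of tables is represented in the list of products. -/
theorem cgmM11Prods_spec :
    ∀ (Us : List (List (List Nat))) (acc : Nat) (g0 : GolayPt → GolayPt), Rep acc g0 →
      ∀ h : GolayPt → GolayPt, IsChainProd Us h →
        ∃ P ∈ cgmM11Prods Us acc, Rep P (g0 ∘ h) := by
  intro Us
  induction Us with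
  | nil =>
    intro acc g0 hrep h hh
    simp only [IsChainProd] at hh
    subst hh
    exact ⟨acc, by simp [cgmM11Prods], hrep⟩
  | cons U Us ih =>
    intro acc g0 hrep h hh
    obtain ⟨T0, hT0, hv, h', hh', rfl⟩ := hh
    obtain ⟨P, hP, hrepP⟩ := ih (compP acc T0) (g0 ∘ tabFun T0) (hrep.comp hv) h' hh'
    refine ⟨P, ?_, hrepP⟩
    rw [cgmM11Prods, List.mem_flatMap]
    exact ⟨T0, hT0, hP⟩

/-- A packed table represents at most one permutation. -/
theorem cgmM11_rep_inj {P : Nat} {g g' : Equiv.Perm GolayPt} (h : Rep P g) (h' : Rep P g') :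
    g = g' := by
  refine Equiv.ext fun p => ?_
  apply idx_injective
  have h1 := h (idx p) (idx_lt p)
  have h2 := h' (idx p) (idx_lt p)
  rw [pt_idx] at h1 h2
  rw [← h1, ← h2]

/-- Counting through an injective coding into a list of the same length. -/
theorem cgmM11_count_aux {H : Type} [Finite H] (L : List Nat) (code : H → Nat)
    (hinj : Function.Injective code) (hmem : ∀ g, code g ∈ L) (hcard : Nat.card H = L.length)
    (f : Nat → Bool) (p : H → Prop) (hp : ∀ g, p g ↔ f (code g) = true) :
    Nat.card {g // p g} = L.countP f := by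
  classical
  haveI : Fintype H := Fintype.ofFinite H
  have hsub : (Finset.univ.image code) ⊆ L.toFinset := by
    intro x hx
    obtain ⟨g, -, rfl⟩ := Finset.mem_image.1 hx
    exact List.mem_toFinset.2 (hmem g)
  have hc1 : (Finset.univ.image code).card = L.length := by
    rw [Finset.card_image_of_injective _ hinj, Finset.card_univ, ← Nat.card_eq_fintype_card, hcard]
  have hc2 : L.toFinset.card ≤ L.length := List.toFinset_card_le L
  have heq : Finset.univ.image code = L.toFinset :=
    Finset.eq_of_subset_of_card_le hsub (by omega)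
  have hnd : L.Nodup := by
    have h1 : (L : Multiset Nat).toFinset.card = Multiset.card (L : Multiset Nat) := by
      change L.toFinset.card = L.length
      rw [← heq, hc1]
    exact Multiset.coe_nodup.1 (Multiset.toFinset_card_eq_card_iff_nodup.1 h1)
  have himg : (Finset.univ.filter p).image code = (L.filter (fun x => f x)).toFinset := by
    ext x
    simp only [Finset.mem_image, Finset.mem_filter, Finset.mem_univ, true_and, List.mem_toFinset,
      List.mem_filter]
    constructor
    · rintro ⟨g, hg, rfl⟩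
      exact ⟨hmem g, (hp g).1 hg⟩
    · rintro ⟨hx, hfx⟩
      have hx' : x ∈ Finset.univ.image code := by rw [heq]; exact List.mem_toFinset.2 hx
      obtain ⟨g, -, rfl⟩ := Finset.mem_image.1 hx'
      exact ⟨g, (hp g).2 hfx, rfl⟩
  rw [Nat.card_eq_fintype_card, Fintype.card_subtype, ← Finset.card_image_of_injective _ hinj,
    himg, List.toFinset_card_of_nodup (hnd.filter _), List.countP_eq_length_filter]

/-- Every element of `M₁₁` is represented by a product of the transversal tables. -/
theorem cgmM11_exists_code (g : ↥Spor.M11) :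
    ∃ P ∈ cgmM11Prods cgmM11Us pkId, Rep P (g : Equiv.Perm GolayPt) := by
  have h := cgmM11Prods_spec cgmM11Us pkId id Rep_pkId _ (m11_isChainProd g.2)
  simpa using h

/-- Counting the elements of `M₁₁` with a property decided on packed tables. -/
theorem cgmM11_count (f : Nat → Bool) (p : ↥Spor.M11 → Prop)
    (hp : ∀ (g : ↥Spor.M11) (P : Nat), Rep P (g : Equiv.Perm GolayPt) → (p g ↔ f P = true)) :
    Nat.card {g : ↥Spor.M11 // p g} = cgmM11Cnt f cgmM11Us pkId := by
  classical
  rw [cgmM11Cnt_eq]
  have hlen : (cgmM11Prods cgmM11Us pkId).length = 7920 := by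
    have h := cgmM11_cnt_all
    rw [cgmM11Cnt_eq, List.countP_true] at h
    exact h
  refine cgmM11_count_aux (cgmM11Prods cgmM11Us pkId)
    (fun g => Classical.choose (cgmM11_exists_code g)) ?_ ?_ ?_ f p ?_
  · intro g g' hgg
    have h1 := (Classical.choose_spec (cgmM11_exists_code g)).2
    have h2 := (Classical.choose_spec (cgmM11_exists_code g')).2
    simp only at hgg
    rw [hgg] at h1
    exact Subtype.ext (cgmM11_rep_inj h1 h2)
  · intro g
    exact (Classical.choose_spec (cgmM11_exists_code g)).1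
  · rw [hlen, card_M11]
  · intro g
    exact hp g _ (Classical.choose_spec (cgmM11_exists_code g)).2

/-- M11D -/
theorem cgm_m11_data :
    Nat.card {g : ↥Cfsg.Spor.M11 // orderOf g = 11} = 1440 ∧
    Nat.card {g : ↥Cfsg.Spor.M11 // orderOf g = 5} = 1584 ∧
    (∀ g : ↥Cfsg.Spor.M11, orderOf g ≠ 55) ∧ (∀ g : ↥Cfsg.Spor.M11, orderOf g ≠ 10) := by
  have hdiv : ∀ g : ↥Cfsg.Spor.M11,
      orderOf g ∣ 8 ∨ orderOf g ∣ 6 ∨ orderOf g ∣ 5 ∨ orderOf g ∣ 11 := by
    intro g
    obtain ⟨P, hP, hrep⟩ := forall_of_allProdP cgmM11_all_ok (m11_isChainProd g.2)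
    unfold cgmM11OK at hP
    rw [anyL_eq, List.any_eq_true] at hP
    obtain ⟨k, hk, hid⟩ := hP
    have hpow : ((g : Equiv.Perm GolayPt) ^ (k + 1)) = 1 :=
      (cgmM11IsId_rep (cgmM11Pow_rep hrep k)).1 hid
    have hd : orderOf g ∣ k + 1 := by
      rw [← Subgroup.orderOf_coe]
      exact orderOf_dvd_of_pow_eq_one hpow
    simp only [List.mem_cons, List.not_mem_nil, or_false] at hk
    rcases hk with rfl | rfl | rfl | rfl
    · exact Or.inl hd
    · exact Or.inr (Or.inl hd)
    · exact Or.inr (Or.inr (Or.inl hd))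
    · exact Or.inr (Or.inr (Or.inr hd))
  refine ⟨?_, ?_, ?_, ?_⟩
  · rw [cgmM11_count (cgmM11Ord 10) (fun g => orderOf g = 11), cgmM11_cnt11]
    intro g P hrep
    rw [cgmM11Ord_rep hrep 10 (by norm_num), Subgroup.orderOf_coe]
  · rw [cgmM11_count (cgmM11Ord 4) (fun g => orderOf g = 5), cgmM11_cnt5]
    intro g P hrep
    rw [cgmM11Ord_rep hrep 4 (by norm_num), Subgroup.orderOf_coe]
  · intro g h55
    have := hdiv g
    rw [h55] at this
    omega
  · intro g h10
    have := hdiv g
    rw [h10] at this
    omega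

end Cfsg.Agent.Helper61
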