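import Mathlib
import Cfsg.Prelude.Def_GeometricClasses
import Cfsg.Prelude.Def_LieClassical
import Cfsg.Agent.Helper69.E4Def
import Cfsg.Agent.Helper69.E5Def
import Cfsg.Agent.Helper43.QuadFin
import Cfsg.Agent.Helper42.SpForm

set_option autoImplicit false

namespace Cfsg.Agent.Helper61
open Cfsg.Agent.Helper69
open scoped Matrix

section gv

variable {F : Type*} [Field F]

theorem gv_quad_transpose {n : Type*} [Fintype n] (M : Matrix n n F) (v : n → F) :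
    v ⬝ᵥ (M *ᵥ v) = v ⬝ᵥ (Mᵀ *ᵥ v) := by
  rw [Matrix.dotProduct_mulVec, ← Matrix.mulVec_transpose, dotProduct_comm]

theorem gv_conj {n : Type*} [Fintype n] (A M : Matrix n n F) (v : n → F) :
    (A *ᵥ v) ⬝ᵥ (M *ᵥ (A *ᵥ v)) = v ⬝ᵥ ((Aᵀ * M * A) *ᵥ v) := by
  rw [← Matrix.mulVec_mulVec, ← Matrix.mulVec_mulVec, Matrix.dotProduct_mulVec v Aᵀ,
    Matrix.vecMul_transpose]

theorem gv_self (v : Fin 2 ⊕ Fin 2 → F) : v ⬝ᵥ (Matrix.J (Fin 2) F *ᵥ v) = 0 := by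
  have h := Cfsg.Agent.Helper42.SpForm.stdForm_self 2 v
  rw [Cfsg.Agent.Helper42.SpForm.stdForm, Matrix.toBilin'_apply'] at h
  exact h

theorem gv_nondeg (v : Fin 2 ⊕ Fin 2 → F)
    (h : ∀ w, v ⬝ᵥ (Matrix.J (Fin 2) F *ᵥ w) = 0) : v = 0 := by
  apply Cfsg.Agent.Helper42.SpForm.stdForm_nondeg 2 v
  intro w
  rw [Cfsg.Agent.Helper42.SpForm.stdForm, Matrix.toBilin'_apply']
  exact h w

variable (x : Matrix (Fin 2 ⊕ Fin 2) (Fin 2 ⊕ Fin 2) F)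

theorem gv_xT (hx : xᵀ * Matrix.J (Fin 2) F * x = Matrix.J (Fin 2) F) (hx5 : x ^ 5 = 1) :
    xᵀ * Matrix.J (Fin 2) F = Matrix.J (Fin 2) F * x ^ 4 := by
  calc xᵀ * Matrix.J (Fin 2) F = xᵀ * Matrix.J (Fin 2) F * x ^ 5 := by rw [hx5, mul_one]
    _ = (xᵀ * Matrix.J (Fin 2) F * x) * x ^ 4 := by rw [pow_succ' x 4, ← mul_assoc]
    _ = Matrix.J (Fin 2) F * x ^ 4 := by rw [hx]

theorem gv_xT_pow (hx : xᵀ * Matrix.J (Fin 2) F * x = Matrix.J (Fin 2) F) (hx5 : x ^ 5 = 1)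
    (n : ℕ) : (x ^ n)ᵀ * Matrix.J (Fin 2) F = Matrix.J (Fin 2) F * (x ^ 4) ^ n := by
  induction n with
  | zero => simp
  | succ n ih =>
    rw [pow_succ' x n, Matrix.transpose_mul, mul_assoc, gv_xT x hx hx5, ← mul_assoc, ih,
      mul_assoc, ← pow_succ]

/-- `c₃ = -c₂` -/
theorem gv_c3 (hx : xᵀ * Matrix.J (Fin 2) F * x = Matrix.J (Fin 2) F) (hx5 : x ^ 5 = 1)
    (v : Fin 2 ⊕ Fin 2 → F) :
    v ⬝ᵥ (Matrix.J (Fin 2) F *ᵥ ((x ^ 3) *ᵥ v)) =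
      - (v ⬝ᵥ (Matrix.J (Fin 2) F *ᵥ ((x ^ 2) *ᵥ v))) := by
  rw [Matrix.mulVec_mulVec, Matrix.mulVec_mulVec, gv_quad_transpose, Matrix.transpose_mul,
    Matrix.J_transpose, mul_neg, gv_xT_pow x hx hx5 3, Matrix.neg_mulVec, dotProduct_neg]
  have h12 : (x ^ 4) ^ 3 = x ^ 2 := by
    rw [← pow_mul, show 4 * 3 = 5 * 2 + 2 from rfl, pow_add, pow_mul, hx5, one_pow, one_mul]
  rw [h12]

/-- the self-adjoint element `1 + 2 (x + x⁴)` -/
def gvMu : Matrix (Fin 2 ⊕ Fin 2) (Fin 2 ⊕ Fin 2) F := 1 + (2 : F) • x + (2 : F) • x ^ 4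

theorem gvMu_adj (hx : xᵀ * Matrix.J (Fin 2) F * x = Matrix.J (Fin 2) F) (hx5 : x ^ 5 = 1) :
    (gvMu x)ᵀ * Matrix.J (Fin 2) F = Matrix.J (Fin 2) F * gvMu x := by
  have h16 : (x ^ 4) ^ 4 = x := by
    rw [← pow_mul, show 4 * 4 = 5 * 3 + 1 from rfl, pow_add, pow_mul, hx5, one_pow, one_mul,
      pow_one]
  unfold gvMu
  rw [Matrix.transpose_add, Matrix.transpose_add, Matrix.transpose_one, Matrix.transpose_smul,
    Matrix.transpose_smul, add_mul, add_mul, one_mul, Matrix.smul_mul, Matrix.smul_mul,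
    gv_xT x hx hx5, gv_xT_pow x hx hx5 4, h16, mul_add, mul_add, mul_one, Matrix.mul_smul,
    Matrix.mul_smul]
  abel

theorem gvMu_comm (k : ℕ) : gvMu x * x ^ k = x ^ k * gvMu x := by
  have hc : Commute x (gvMu x) := by
    unfold gvMu
    exact ((Commute.one_right x).add_right ((Commute.refl x).smul_right _)).add_right
      (((Commute.refl x).pow_right 4).smul_right _)
  exact (hc.pow_left k).eq.symm

theorem gvMu_sq (hx5 : x ^ 5 = 1) (hΦ : x ^ 4 + x ^ 3 + x ^ 2 + x + 1 = 0) :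
    gvMu x * gvMu x = (5 : F) • (1 : Matrix (Fin 2 ⊕ Fin 2) (Fin 2 ⊕ Fin 2) F) := by
  have hμ : gvMu x = Polynomial.aeval x
      (1 + 2 * Polynomial.X + 2 * Polynomial.X ^ 4 : Polynomial F) := by
    simp [gvMu, two_smul, two_mul]
  have hpoly : (1 + 2 * Polynomial.X + 2 * Polynomial.X ^ 4 : Polynomial F) *
      (1 + 2 * Polynomial.X + 2 * Polynomial.X ^ 4) =
      5 + 4 * (Polynomial.X ^ 4 + Polynomial.X ^ 3 + Polynomial.X ^ 2 + Polynomial.X + 1) +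
        (4 * Polynomial.X ^ 3 + 8) * (Polynomial.X ^ 5 - 1) := by ring
  rw [hμ, ← map_mul, hpoly]
  simp only [map_add, map_mul, map_sub, map_pow, map_ofNat, map_one, Polynomial.aeval_X]
  rw [hΦ, hx5, sub_self, mul_zero, mul_zero, add_zero, add_zero,
    ← Algebra.algebraMap_eq_smul_one, map_ofNat]

/-- `c_k(μ v) = 5 c_k(v)` -/
theorem gvMu_scale (hx : xᵀ * Matrix.J (Fin 2) F * x = Matrix.J (Fin 2) F) (hx5 : x ^ 5 = 1)
    (hΦ : x ^ 4 + x ^ 3 + x ^ 2 + x + 1 = 0) (k : ℕ) (v : Fin 2 ⊕ Fin 2 → F) :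
    (gvMu x *ᵥ v) ⬝ᵥ (Matrix.J (Fin 2) F *ᵥ ((x ^ k) *ᵥ (gvMu x *ᵥ v))) =
      5 * (v ⬝ᵥ (Matrix.J (Fin 2) F *ᵥ ((x ^ k) *ᵥ v))) := by
  rw [Matrix.mulVec_mulVec, gv_conj, Matrix.mulVec_mulVec]
  have h : (gvMu x)ᵀ * (Matrix.J (Fin 2) F * x ^ k) * gvMu x =
      (5 : F) • (Matrix.J (Fin 2) F * x ^ k) := by
    rw [← mul_assoc, gvMu_adj x hx hx5, mul_assoc (Matrix.J (Fin 2) F), gvMu_comm x k,
      mul_assoc, mul_assoc, gvMu_sq x hx5 hΦ, Matrix.mul_smul, Matrix.mul_smul, mul_one]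
  rw [h, Matrix.smul_mulVec, dotProduct_smul, smul_eq_mul]

theorem gv_smul (M : Matrix (Fin 2 ⊕ Fin 2) (Fin 2 ⊕ Fin 2) F) (a : F)
    (w : Fin 2 ⊕ Fin 2 → F) :
    (a • w) ⬝ᵥ (Matrix.J (Fin 2) F *ᵥ (M *ᵥ (a • w))) =
      a * a * (w ⬝ᵥ (Matrix.J (Fin 2) F *ᵥ (M *ᵥ w))) := by
  rw [Matrix.mulVec_smul, Matrix.mulVec_smul, dotProduct_smul, smul_dotProduct, smul_eq_mul,
    smul_eq_mul, mul_assoc]

/-- `c₁(v) ≠ 0` when `c₂(v) = 0`, `v ≠ 0` and `v` is cyclic -/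
theorem gv_c1_ne (hx : xᵀ * Matrix.J (Fin 2) F * x = Matrix.J (Fin 2) F) (hx5 : x ^ 5 = 1)
    (hcyc : ∀ v : Fin 2 ⊕ Fin 2 → F, v ≠ 0 → ∀ c : Fin 4 → F,
      c 0 • v + c 1 • (x *ᵥ v) + c 2 • ((x ^ 2) *ᵥ v) + c 3 • ((x ^ 3) *ᵥ v) = 0 → c = 0)
    (v : Fin 2 ⊕ Fin 2 → F) (hv : v ≠ 0)
    (h2 : v ⬝ᵥ (Matrix.J (Fin 2) F *ᵥ ((x ^ 2) *ᵥ v)) = 0) :
    v ⬝ᵥ (Matrix.J (Fin 2) F *ᵥ (x *ᵥ v)) ≠ 0 := by
  classical
  intro h1
  apply hv
  apply gv_nondeg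
  obtain ⟨b, hb⟩ : ∃ b : Fin 4 → (Fin 2 ⊕ Fin 2 → F),
      b = ![v, x *ᵥ v, (x ^ 2) *ᵥ v, (x ^ 3) *ᵥ v] := ⟨_, rfl⟩
  have hli : LinearIndependent F b := by
    rw [Fintype.linearIndependent_iff]
    intro g hg
    rw [Fin.sum_univ_four, hb] at hg
    have := hcyc v hv g hg
    intro i
    rw [this]
    rfl
  have hspan : Submodule.span F (Set.range b) = ⊤ := by
    apply hli.span_eq_top_of_card_eq_finrank'
    rw [Module.finrank_fintype_fun_eq_card, Fintype.card_sum, Fintype.card_fin, Fintype.card_fin]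
  intro w
  have hw : w ∈ Submodule.span F (Set.range b) := by
    rw [hspan]
    trivial
  induction hw using Submodule.span_induction with
  | mem y hy =>
    obtain ⟨i, rfl⟩ := hy
    rw [hb]
    fin_cases i
    · exact gv_self v
    · exact h1
    · exact h2
    · show v ⬝ᵥ (Matrix.J (Fin 2) F *ᵥ ((x ^ 3) *ᵥ v)) = 0
      rw [gv_c3 x hx hx5, h2, neg_zero]
  | zero => simp
  | add y z _ _ hy hz => rw [Matrix.mulVec_add, dotProduct_add, hy, hz, add_zero]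
  | smul a y _ hy => rw [Matrix.mulVec_smul, dotProduct_smul, hy, smul_zero]

end gv

/-- over `F_p`, `p ≡ ±2 (mod 5)`: a non-zero `t` or `5 t` is a square -/
theorem gv_square {F : Type*} [Field F] [Fintype F] {p : ℕ} [Fact p.Prime] [CharP F p]
    (hF : Fintype.card F = p) (hp5 : p % 5 = 2 ∨ p % 5 = 3) (t : F) (ht : t ≠ 0) :
    (∃ s : F, s ≠ 0 ∧ t = s * s) ∨ (∃ s : F, s ≠ 0 ∧ 5 * t = s * s) := by
  classical
  have hdec : ∀ y r : ZMod 5, y = 2 ∨ y = 3 → y = r * r → False := by decide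
  have hp : p.Prime := Fact.out
  by_cases hp2 : p = 2
  · left
    have hch : ringChar F = 2 := by
      rw [ringChar.eq F p]
      exact hp2
    obtain ⟨s, hs⟩ := FiniteField.isSquare_of_char_two hch t
    refine ⟨s, ?_, hs⟩
    rintro rfl
    apply ht
    rw [hs, mul_zero]
  · have hch : ringChar F ≠ 2 := by
      rw [ringChar.eq F p]
      exact hp2
    have hp5' : p ≠ 5 := by
      rintro rfl
      omega
    have h5 : (5 : F) ≠ 0 := by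
      intro h
      have h' : ((5 : ℕ) : F) = 0 := by exact_mod_cast h
      rw [CharP.cast_eq_zero_iff F p] at h'
      exact hp5' ((Nat.prime_dvd_prime_iff_eq hp (by norm_num : Nat.Prime 5)).mp h')
    have hn5 : ¬ IsSquare (5 : F) := by
      rintro ⟨s, hs⟩
      have hinj : Function.Injective (ZMod.castHom (dvd_refl p) F) :=
        (ZMod.castHom (dvd_refl p) F).injective
      have hbij : Function.Bijective (ZMod.castHom (dvd_refl p) F) := by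
        rw [Fintype.bijective_iff_injective_and_card]
        exact ⟨hinj, by rw [ZMod.card, hF]⟩
      obtain ⟨s', rfl⟩ := hbij.2 s
      have hsq5 : IsSquare (5 : ZMod p) := by
        refine ⟨s', hinj ?_⟩
        rw [map_mul, ← hs, map_ofNat]
      have : Fact (Nat.Prime 5) := ⟨by norm_num⟩
      have hrec := ZMod.exists_sq_eq_prime_iff_of_mod_four_eq_one (p := 5) (q := p)
        (by norm_num) hp2
      have hsqp : IsSquare ((p : ℕ) : ZMod 5) := by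
        apply hrec.mpr
        have : ((5 : ℕ) : ZMod p) = 5 := by norm_cast
        rw [this]
        exact hsq5
      have hpz : ((p : ℕ) : ZMod 5) = 2 ∨ ((p : ℕ) : ZMod 5) = 3 := by
        rcases hp5 with h | h
        · left
          have : ((p : ℕ) : ZMod 5) = ((2 : ℕ) : ZMod 5) := by
            rw [ZMod.natCast_eq_natCast_iff']
            simpa using h
          simpa using this
        · right
          have : ((p : ℕ) : ZMod 5) = ((3 : ℕ) : ZMod 5) := by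
            rw [ZMod.natCast_eq_natCast_iff']
            simpa using h
          simpa using this
      obtain ⟨r, hr⟩ := hsqp
      exact hdec _ r hpz hr
    have h5N : (5 : F) ^ (Fintype.card F / 2) = -1 := by
      rcases FiniteField.pow_dichotomy hch h5 with h | h
      · exact absurd ((FiniteField.isSquare_iff hch h5).mpr h) hn5
      · exact h
    rcases FiniteField.pow_dichotomy hch ht with h | h
    · left
      obtain ⟨s, hs⟩ := (FiniteField.isSquare_iff hch ht).mpr h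
      refine ⟨s, ?_, hs⟩
      rintro rfl
      apply ht
      rw [hs, mul_zero]
    · right
      have h5t : (5 * t) ≠ 0 := mul_ne_zero h5 ht
      obtain ⟨s, hs⟩ := (FiniteField.isSquare_iff hch h5t).mpr (by rw [mul_pow, h5N, h]; ring)
      refine ⟨s, ?_, hs⟩
      rintro rfl
      apply h5t
      rw [hs, mul_zero]

/-- CF5B with the two facts of CF5A as hypotheses -/
theorem e5_good_vector_core {F : Type*} [Field F] [Fintype F] {p : ℕ} [Fact p.Prime] [CharP F p]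
    (hF : Fintype.card F = p) (hp5 : p % 5 = 2 ∨ p % 5 = 3)
    (x : Matrix (Fin 2 ⊕ Fin 2) (Fin 2 ⊕ Fin 2) F)
    (hx : xᵀ * Matrix.J (Fin 2) F * x = Matrix.J (Fin 2) F)
    (hx5 : x ^ 5 = 1) (hΦ : x ^ 4 + x ^ 3 + x ^ 2 + x + 1 = 0)
    (hcyc : ∀ v : Fin 2 ⊕ Fin 2 → F, v ≠ 0 → ∀ c : Fin 4 → F,
      c 0 • v + c 1 • (x *ᵥ v) + c 2 • ((x ^ 2) *ᵥ v) + c 3 • ((x ^ 3) *ᵥ v) = 0 → c = 0) :
    ∃ v : Fin 2 ⊕ Fin 2 → F, v ⬝ᵥ (Matrix.J (Fin 2) F *ᵥ (x *ᵥ v)) = 1 ∧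
      v ⬝ᵥ (Matrix.J (Fin 2) F *ᵥ ((x ^ 2) *ᵥ v)) = 0 := by
  classical
  obtain ⟨v₀, hv₀, hQ⟩ := Cfsg.Agent.Helper43.exists_singular
    ((Matrix.toBilin' (Matrix.J (Fin 2) F * x ^ 2)).toQuadraticMap :
      QuadraticForm F (Fin 2 ⊕ Fin 2 → F))
    (by rw [Module.finrank_fintype_fun_eq_card, Fintype.card_sum, Fintype.card_fin]; norm_num)
  have h2 : v₀ ⬝ᵥ (Matrix.J (Fin 2) F *ᵥ ((x ^ 2) *ᵥ v₀)) = 0 := by
    rw [LinearMap.BilinMap.toQuadraticMap_apply, Matrix.toBilin'_apply'] at hQ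
    rw [Matrix.mulVec_mulVec]
    exact hQ
  have h1 := gv_c1_ne x hx hx5 hcyc v₀ hv₀ h2
  obtain ⟨t, ht⟩ : ∃ t : F, t = v₀ ⬝ᵥ (Matrix.J (Fin 2) F *ᵥ (x *ᵥ v₀)) := ⟨_, rfl⟩
  rw [← ht] at h1
  have e1 : ∀ w : Fin 2 ⊕ Fin 2 → F, w ⬝ᵥ (Matrix.J (Fin 2) F *ᵥ (x *ᵥ w)) =
      w ⬝ᵥ (Matrix.J (Fin 2) F *ᵥ ((x ^ 1) *ᵥ w)) := by
    intro w
    rw [pow_one]
  rcases gv_square hF hp5 t h1 with ⟨s, hs0, hs⟩ | ⟨s, hs0, hs⟩
  · refine ⟨s⁻¹ • v₀, ?_, ?_⟩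
    · rw [gv_smul x, ← ht, hs]
      field_simp
    · rw [gv_smul (x ^ 2), h2, mul_zero]
  · refine ⟨s⁻¹ • (gvMu x *ᵥ v₀), ?_, ?_⟩
    · rw [gv_smul x, e1, gvMu_scale x hx hx5 hΦ 1, pow_one, ← ht, hs]
      field_simp
    · rw [gv_smul (x ^ 2), gvMu_scale x hx hx5 hΦ 2, h2, mul_zero, mul_zero]

end Cfsg.Agent.Helper61
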