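import Mathlib
import Cfsg.Agent.Helper5.SL2Sylow

set_option autoImplicit false
set_option linter.unusedVariables false
set_option linter.unusedSectionVars false
set_option linter.unusedSimpArgs false

namespace Cfsg.Agent.Helper61

namespace Nat2

open Cfsg.Agent.Helper5

variable {F : Type*} [Field F]

theorem lSL_mul (a b : F) : lSL a * lSL b = lSL (a + b) := by
  apply Subtype.ext
  rw [Matrix.SpecialLinearGroup.coe_mul, lSL_coe, lSL_coe, lSL_coe]
  ext i j
  fin_cases i <;> fin_cases j <;> simp [Matrix.mul_apply, Fin.sum_univ_two, add_comm]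

theorem lSL_zero : lSL (0 : F) = 1 := by
  apply Subtype.ext
  simp [lSL_coe, Matrix.one_fin_two]

theorem uSL_inv (t : F) : (uSL t)⁻¹ = uSL (-t) := by
  apply inv_eq_of_mul_eq_one_right
  rw [uSL_mul, add_neg_cancel, uSL_zero]

theorem lSL_inv (t : F) : (lSL t)⁻¹ = lSL (-t) := by
  apply inv_eq_of_mul_eq_one_right
  rw [lSL_mul, add_neg_cancel, lSL_zero]

/-- the monomial element `[[0, t], [-t⁻¹, 0]]` -/
def nn (t : F) : Matrix.SpecialLinearGroup (Fin 2) F := uSL t * lSL (-t⁻¹) * uSL t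

theorem nn_eq (t : F) : nn t = uSL t * lSL (-t⁻¹) * uSL t := rfl

theorem nn_coe {t : F} (ht : t ≠ 0) :
    ((nn t : Matrix.SpecialLinearGroup (Fin 2) F) : Matrix (Fin 2) (Fin 2) F) =
      !![0, t; -t⁻¹, 0] := by
  rw [nn_eq, Matrix.SpecialLinearGroup.coe_mul, Matrix.SpecialLinearGroup.coe_mul, uSL_coe,
    lSL_coe]
  ext i j
  fin_cases i <;> fin_cases j <;> simp [Matrix.mul_apply, Fin.sum_univ_two, ht]

theorem l_mul_nn {t : F} (ht : t ≠ 0) (s : F) : lSL s * nn t = nn t * uSL (-(s * t ^ 2)) := by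
  apply Subtype.ext
  rw [Matrix.SpecialLinearGroup.coe_mul, Matrix.SpecialLinearGroup.coe_mul, nn_coe ht, uSL_coe,
    lSL_coe]
  ext i j
  fin_cases i <;> fin_cases j <;> simp [Matrix.mul_apply, Fin.sum_univ_two, ht]
  all_goals (field_simp)

theorem u_mul_nn {t : F} (ht : t ≠ 0) (s : F) :
    uSL s * nn t = nn t * lSL (-(s * (t⁻¹) ^ 2)) := by
  apply Subtype.ext
  rw [Matrix.SpecialLinearGroup.coe_mul, Matrix.SpecialLinearGroup.coe_mul, nn_coe ht, uSL_coe,
    lSL_coe]
  ext i j
  fin_cases i <;> fin_cases j <;> simp [Matrix.mul_apply, Fin.sum_univ_two, ht]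
  all_goals (field_simp)

theorem nn_mul {t s : F} (ht : t ≠ 0) (hs : s ≠ 0) :
    nn (t * s) * nn (-1) = nn t * nn (-1) * (nn s * nn (-1)) := by
  apply Subtype.ext
  simp only [Matrix.SpecialLinearGroup.coe_mul, nn_coe ht, nn_coe hs, nn_coe (mul_ne_zero ht hs),
    nn_coe (neg_ne_zero.mpr (one_ne_zero (α := F)))]
  ext i j
  fin_cases i <;> fin_cases j <;> simp [Matrix.mul_apply, Fin.sum_univ_two, ht, hs]
  all_goals (field_simp)

variable {M : Type*} [AddCommGroup M] [DistribMulAction (Matrix.SpecialLinearGroup (Fin 2) F) M]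

/-- `u t • m - m` -/
def phi (t : F) (m : M) : M := uSL t • m - m

/-- `l s • m - m` -/
def psi (s : F) (m : M) : M := lSL s • m - m

theorem u_smul (t : F) (m : M) : uSL t • m = m + phi t m := by
  unfold phi; abel

theorem l_smul (s : F) (m : M) : lSL s • m = m + psi s m := by
  unfold psi; abel

theorem phi_add (t : F) (a b : M) : phi t (a + b) = phi t a + phi t b := by
  simp only [phi, smul_add]; abel

theorem psi_add (t : F) (a b : M) : psi t (a + b) = psi t a + psi t b := by
  simp only [psi, smul_add]; abel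

theorem phi_zero' (t : F) : phi t (0 : M) = 0 := by
  simp [phi]

theorem psi_zero' (t : F) : psi t (0 : M) = 0 := by
  simp [psi]

theorem phi_neg (t : F) (a : M) : phi t (-a) = -phi t a := by
  simp only [phi, smul_neg]; abel

theorem psi_neg (t : F) (a : M) : psi t (-a) = -psi t a := by
  simp only [psi, smul_neg]; abel

theorem phi_sub (t : F) (a b : M) : phi t (a - b) = phi t a - phi t b := by
  simp only [phi, smul_sub]; abel

theorem psi_sub (t : F) (a b : M) : psi t (a - b) = psi t a - psi t b := by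
  simp only [psi, smul_sub]; abel

theorem phi_zero_left (m : M) : phi (0 : F) m = 0 := by
  simp [phi, uSL_zero]

theorem psi_zero_left (m : M) : psi (0 : F) m = 0 := by
  simp [psi, lSL_zero]

theorem phi_phi (hU : ∀ (s t : F) (m : M), uSL s • phi t m = phi t m) (s t : F) (m : M) :
    phi s (phi t m) = 0 := by
  show uSL s • phi t m - phi t m = 0
  rw [hU, sub_self]

theorem psi_psi (hL : ∀ (s t : F) (m : M), lSL s • psi t m = psi t m) (s t : F) (m : M) :
    psi s (psi t m) = 0 := by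
  show lSL s • psi t m - psi t m = 0
  rw [hL, sub_self]

theorem phi_add_left (hU : ∀ (s t : F) (m : M), uSL s • phi t m = phi t m) (s t : F) (m : M) :
    phi (s + t) m = phi s m + phi t m := by
  have h1 : uSL (s + t) • m = uSL s • (uSL t • m) := by rw [← mul_smul, uSL_mul]
  have h2 : uSL s • (uSL t • m) = uSL s • m + phi t m := by
    rw [u_smul t m, smul_add, hU]
  show uSL (s + t) • m - m = (uSL s • m - m) + phi t m
  rw [h1, h2]
  abel

theorem psi_add_left (hL : ∀ (s t : F) (m : M), lSL s • psi t m = psi t m) (s t : F) (m : M) :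
    psi (s + t) m = psi s m + psi t m := by
  have h1 : lSL (s + t) • m = lSL s • (lSL t • m) := by rw [← mul_smul, lSL_mul]
  have h2 : lSL s • (lSL t • m) = lSL s • m + psi t m := by
    rw [l_smul t m, smul_add, hL]
  show lSL (s + t) • m - m = (lSL s • m - m) + psi t m
  rw [h1, h2]
  abel

theorem phi_neg_left (hU : ∀ (s t : F) (m : M), uSL s • phi t m = phi t m) (t : F) (m : M) :
    phi (-t) m = -phi t m := by
  have h := phi_add_left hU t (-t) m
  rw [add_neg_cancel, phi_zero_left] at h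
  exact eq_neg_of_add_eq_zero_right h.symm

theorem psi_neg_left (hL : ∀ (s t : F) (m : M), lSL s • psi t m = psi t m) (t : F) (m : M) :
    psi (-t) m = -psi t m := by
  have h := psi_add_left hL t (-t) m
  rw [add_neg_cancel, psi_zero_left] at h
  exact eq_neg_of_add_eq_zero_right h.symm

/-- invariance under the root elements gives invariance under the group -/
theorem ginv (N : AddSubgroup M) (hu : ∀ (t : F), ∀ m ∈ N, uSL t • m ∈ N)
    (hl : ∀ (s : F), ∀ m ∈ N, lSL s • m ∈ N) :
    ∀ (g : Matrix.SpecialLinearGroup (Fin 2) F), ∀ m ∈ N, g • m ∈ N := by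
  let H : Subgroup (Matrix.SpecialLinearGroup (Fin 2) F) :=
    { carrier := {g | ∀ m ∈ N, g • m ∈ N ∧ g⁻¹ • m ∈ N}
      mul_mem' := fun {a b} ha hb m hm =>
        ⟨by rw [mul_smul]; exact (ha _ (hb m hm).1).1,
         by rw [mul_inv_rev, mul_smul]; exact (hb _ (ha m hm).2).2⟩
      one_mem' := fun m hm => by simp [hm]
      inv_mem' := fun {a} ha m hm => ⟨(ha m hm).2, by rw [inv_inv]; exact (ha m hm).1⟩ }
  have hH : H = ⊤ := eq_top_of_uSL_lSL_mem H
    (fun b m hm => ⟨hu b m hm, by rw [uSL_inv]; exact hu _ m hm⟩)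
    (fun b m hm => ⟨hl b m hm, by rw [lSL_inv]; exact hl _ m hm⟩)
  intro g m hm
  have hg : g ∈ H := hH ▸ Subgroup.mem_top g
  exact (hg m hm).1

theorem gfix (m : M) (hu : ∀ t : F, uSL t • m = m) (hl : ∀ s : F, lSL s • m = m) :
    ∀ g : Matrix.SpecialLinearGroup (Fin 2) F, g • m = m := by
  have hH : MulAction.stabilizer (Matrix.SpecialLinearGroup (Fin 2) F) m = ⊤ :=
    eq_top_of_uSL_lSL_mem _ (fun b => MulAction.mem_stabilizer_iff.mpr (hu b))
      (fun b => MulAction.mem_stabilizer_iff.mpr (hl b))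
  intro g
  exact MulAction.mem_stabilizer_iff.mp (hH ▸ Subgroup.mem_top g)

theorem quad_l (hU : ∀ (s t : F) (m : M), uSL s • phi t m = phi t m) :
    ∀ (s t : F) (m : M), lSL s • psi t m = psi t m := by
  intro s t m
  have e1 : ∀ r : F, lSL r * nn (1 : F) = nn 1 * uSL (-r) := fun r => by
    have h := l_mul_nn (one_ne_zero (α := F)) r
    simpa using h
  obtain ⟨x, hx⟩ : ∃ x : M, m = nn (1 : F) • x := ⟨(nn (1 : F))⁻¹ • m, by rw [smul_inv_smul]⟩
  have h1 : psi t m = nn (1 : F) • phi (-t) x := by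
    show lSL t • m - m = nn 1 • (uSL (-t) • x - x)
    rw [smul_sub, ← mul_smul, ← e1, mul_smul, ← hx]
  rw [h1, ← mul_smul, e1, mul_smul, hU]


theorem inter_zero
    (hirr : ∀ N : AddSubgroup M,
      (∀ (g : Matrix.SpecialLinearGroup (Fin 2) F) (m : M), m ∈ N → g • m ∈ N) → N = ⊥ ∨ N = ⊤)
    (hnt : ∃ (g : Matrix.SpecialLinearGroup (Fin 2) F) (m : M), g • m ≠ m)
    (m : M) (hv : ∀ t : F, phi t m = 0) (hw : ∀ s : F, psi s m = 0) : m = 0 := by
  have hfix : ∀ g : Matrix.SpecialLinearGroup (Fin 2) F, g • m = m :=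
    gfix m (fun t => by have h := hv t; rwa [phi, sub_eq_zero] at h)
      (fun s => by have h := hw s; rwa [psi, sub_eq_zero] at h)
  let N : AddSubgroup M :=
    { carrier := {x | ∀ g : Matrix.SpecialLinearGroup (Fin 2) F, g • x = x}
      zero_mem' := fun g => smul_zero g
      add_mem' := fun {a b} ha hb g => by rw [smul_add, ha g, hb g]
      neg_mem' := fun {a} ha g => by rw [smul_neg, ha g] }
  rcases hirr N (fun g x hx g' => by rw [hx g]; exact hx g') with h | h
  · have hm : m ∈ N := hfix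
    rw [h] at hm
    exact AddSubgroup.mem_bot.mp hm
  · exfalso
    obtain ⟨g, x, hgx⟩ := hnt
    have hx : x ∈ N := h ▸ AddSubgroup.mem_top x
    exact hgx (hx g)

section Core

variable
    (hirr : ∀ N : AddSubgroup M,
      (∀ (g : Matrix.SpecialLinearGroup (Fin 2) F) (m : M), m ∈ N → g • m ∈ N) → N = ⊥ ∨ N = ⊤)
    (hnt : ∃ (g : Matrix.SpecialLinearGroup (Fin 2) F) (m : M), g • m ≠ m)
    (hU : ∀ (s t : F) (m : M), uSL s • phi t m = phi t m)
    (hL : ∀ (s t : F) (m : M), lSL s • psi t m = psi t m)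

include hirr hnt hU hL

theorem nn_v {t : F} (ht : t ≠ 0) (v : M) (hv : ∀ r : F, phi r v = 0) :
    phi t (psi t⁻¹ v) = v ∧ nn t • v = -psi t⁻¹ v := by
  obtain ⟨x, hx⟩ : ∃ x : M, x = psi (-t⁻¹) v := ⟨_, rfl⟩
  have hxW : ∀ s : F, psi s x = 0 := fun s => by rw [hx]; exact psi_psi hL s _ v
  have e : nn t • v = v + x + phi t x := by
    rw [nn_eq, mul_smul, mul_smul, u_smul t v, hv t, add_zero, l_smul, ← hx, u_smul, phi_add,
      hv t, zero_add]
  have hW : ∀ s : F, psi s (nn t • v) = 0 := fun s => by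
    show lSL s • (nn t • v) - nn t • v = 0
    rw [← mul_smul, l_mul_nn ht, mul_smul, u_smul, hv, add_zero, sub_self]
  have hz : v + phi t x = 0 := by
    apply inter_zero hirr hnt
    · intro r
      rw [phi_add, hv, phi_phi hU, add_zero]
    · intro s
      have h1 : v + phi t x = nn t • v - x := by rw [e]; abel
      rw [h1, psi_sub, hW, hxW, sub_zero]
  have hx' : x = -psi t⁻¹ v := by rw [hx]; exact psi_neg_left hL t⁻¹ v
  constructor
  · have h1 : phi t x = -v := eq_neg_of_add_eq_zero_right hz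
    rw [hx', phi_neg] at h1
    exact neg_injective h1
  · rw [e, ← hx']
    have h1 : v + x + phi t x = x + (v + phi t x) := by abel
    rw [h1, hz, add_zero]

theorem nn_w {t : F} (ht : t ≠ 0) (w : M) (hw : ∀ s : F, psi s w = 0) :
    psi t⁻¹ (phi t w) = w ∧ nn t • w = phi t w := by
  obtain ⟨c, hc⟩ : ∃ c : M, c = phi t w := ⟨_, rfl⟩
  have hcV : ∀ r : F, phi r c = 0 := fun r => by rw [hc]; exact phi_phi hU r t w
  obtain ⟨y, hy⟩ : ∃ y : M, y = psi (-t⁻¹) c := ⟨_, rfl⟩
  have hyW : ∀ s : F, psi s y = 0 := fun s => by rw [hy]; exact psi_psi hL s _ c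
  have e : nn t • w = w + y + (c + c + phi t y) := by
    rw [nn_eq, mul_smul, mul_smul, u_smul t w, ← hc, smul_add, l_smul _ w, hw, add_zero,
      l_smul _ c, ← hy, smul_add, smul_add, u_smul t w, ← hc, u_smul t c, hcV, add_zero,
      u_smul t y]
    abel
  have hV : ∀ r : F, phi r (nn t • w) = 0 := fun r => by
    show uSL r • (nn t • w) - nn t • w = 0
    rw [← mul_smul, u_mul_nn ht, mul_smul, l_smul, hw, add_zero, sub_self]
  have hz : w + y = 0 := by
    apply inter_zero hirr hnt
    · intro r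
      have h1 : w + y = nn t • w - (c + c + phi t y) := by rw [e]; abel
      rw [h1, phi_sub, hV, phi_add, phi_add, hcV, phi_phi hU, add_zero, add_zero, sub_zero]
    · intro s
      rw [psi_add, hw, hyW, add_zero]
  have hy' : y = -psi t⁻¹ c := by rw [hy]; exact psi_neg_left hL t⁻¹ c
  have hyw : y = -w := eq_neg_of_add_eq_zero_right hz
  constructor
  · rw [← hc]
    rw [hy'] at hyw
    exact neg_injective hyw
  · rw [e, hz, hyw, phi_neg, ← hc]
    abel

theorem hh_v {t : F} (ht : t ≠ 0) (v : M) (hv : ∀ r : F, phi r v = 0) :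
    (nn t * nn (-1 : F)) • v = phi t (psi (1 : F) v) := by
  have h1 := (nn_v hirr hnt hU hL (neg_ne_zero.mpr (one_ne_zero (α := F))) v hv).2
  rw [inv_neg_one, psi_neg_left hL, neg_neg] at h1
  rw [mul_smul, h1]
  exact (nn_w hirr hnt hU hL ht (psi (1 : F) v) (fun s => psi_psi hL s (1 : F) v)).2

theorem L_mul {t s : F} (ht : t ≠ 0) (hs : s ≠ 0) (v : M) (hv : ∀ r : F, phi r v = 0) :
    phi (t * s) (psi (1 : F) v) = phi t (psi (1 : F) (phi s (psi (1 : F) v))) := by
  rw [← hh_v hirr hnt hU hL (mul_ne_zero ht hs) v hv, nn_mul ht hs, mul_smul,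
    hh_v hirr hnt hU hL hs v hv,
    hh_v hirr hnt hU hL ht _ (fun r => phi_phi hU r s _)]

theorem L_one (v : M) (hv : ∀ r : F, phi r v = 0) : phi (1 : F) (psi (1 : F) v) = v := by
  have h0 := (nn_v hirr hnt hU hL (one_ne_zero (α := F)) v hv).1
  rwa [inv_one] at h0

theorem psi_eq {s : F} (hs : s ≠ 0) (v : M) (hv : ∀ r : F, phi r v = 0) :
    psi s v = psi (1 : F) (phi s (psi (1 : F) v)) := by
  obtain ⟨w, hw⟩ : ∃ w : M, w = psi (1 : F) (phi s (psi (1 : F) v)) := ⟨_, rfl⟩
  have hwW : ∀ r : F, psi r w = 0 := fun r => by rw [hw]; exact psi_psi hL r (1 : F) _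
  have h1 : phi s⁻¹ w = v := by
    have h := L_mul hirr hnt hU hL (inv_ne_zero hs) hs v hv
    rw [inv_mul_cancel₀ hs, L_one hirr hnt hU hL v hv] at h
    rw [hw]
    exact h.symm
  have h2 := (nn_w hirr hnt hU hL (inv_ne_zero hs) w hwW).1
  rw [inv_inv, h1] at h2
  rw [← hw]
  exact h2

end Core

end Nat2



open Nat2 in
theorem nat2_frame {F : Type*} [Field F] {M : Type*} [AddCommGroup M]
    [DistribMulAction (Matrix.SpecialLinearGroup (Fin 2) F) M]
    (hirr : ∀ N : AddSubgroup M,
      (∀ (g : Matrix.SpecialLinearGroup (Fin 2) F) (m : M), m ∈ N → g • m ∈ N) → N = ⊥ ∨ N = ⊤)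
    (hnt : ∃ (g : Matrix.SpecialLinearGroup (Fin 2) F) (m : M), g • m ≠ m)
    (hquad : ∀ (s t : F) (m : M),
      Helper5.uSL s • (Helper5.uSL t • m - m) = Helper5.uSL t • m - m) :
    ∃ lam mu : F →+ M,
      (∀ m : M, ∃ a b : F, m = lam a + mu b) ∧
      (∀ a b : F, lam a + mu b = 0 → a = 0 ∧ b = 0) ∧
      (∀ t a : F, Helper5.uSL t • lam a = lam a) ∧
      (∀ t b : F, Helper5.uSL t • mu b = mu b + lam (t * b)) ∧
      (∀ s a : F, Helper5.lSL s • lam a = lam a + mu (s * a)) ∧
      (∀ s b : F, Helper5.lSL s • mu b = mu b) := by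
  have hU : ∀ (s t : F) (m : M), Helper5.uSL s • phi t m = phi t m := hquad
  have hL := quad_l hU
  obtain ⟨v0, hv0, hv0ne⟩ : ∃ v0 : M, (∀ t : F, phi t v0 = 0) ∧ v0 ≠ 0 := by
    by_contra hcon0
    have hcon : ∀ v : M, (∀ t : F, phi t v = 0) → v = 0 := fun v h =>
      by_contra fun hne => hcon0 ⟨v, h, hne⟩
    have hall : ∀ m : M, m = 0 := fun m =>
      hcon m (fun t => hcon _ (fun r => phi_phi hU r t m))
    obtain ⟨g, x, hgx⟩ := hnt
    exact hgx (by rw [hall x, smul_zero])
  let lam : F →+ M :=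
    { toFun := fun a => phi a (psi (1 : F) v0)
      map_zero' := phi_zero_left _
      map_add' := fun a b => phi_add_left hU a b _ }
  let mu : F →+ M :=
    { toFun := fun b => psi b v0
      map_zero' := psi_zero_left _
      map_add' := fun a b => psi_add_left hL a b _ }
  have hlam : ∀ a : F, lam a = phi a (psi (1 : F) v0) := fun a => rfl
  have hmu : ∀ b : F, mu b = psi b v0 := fun b => rfl
  have hlamV : ∀ (a r : F), phi r (lam a) = 0 := fun a r => phi_phi hU r a _
  have hmuW : ∀ (b s : F), psi s (mu b) = 0 := fun b s => psi_psi hL s b _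
  have hL1 : lam 1 = v0 := L_one hirr hnt hU hL v0 hv0
  have K1 : ∀ t b : F, phi t (mu b) = lam (t * b) := by
    intro t b
    by_cases hb : b = 0
    · subst hb
      rw [mul_zero, map_zero, map_zero, phi_zero']
    by_cases ht : t = 0
    · subst ht
      rw [zero_mul, map_zero, phi_zero_left]
    rw [hmu, psi_eq hirr hnt hU hL hb v0 hv0, hlam, L_mul hirr hnt hU hL ht hb v0 hv0]
  have K2 : ∀ s a : F, psi s (lam a) = mu (s * a) := by
    intro s a
    by_cases ha : a = 0
    · subst ha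
      rw [mul_zero, map_zero, map_zero, psi_zero']
    by_cases hs : s = 0
    · subst hs
      rw [zero_mul, map_zero, psi_zero_left]
    rw [psi_eq hirr hnt hU hL hs (lam a) (hlamV a), hmu,
      psi_eq hirr hnt hU hL (mul_ne_zero hs ha) v0 hv0, hlam, L_mul hirr hnt hU hL hs ha v0 hv0]
  have f1 : ∀ t a : F, Helper5.uSL t • lam a = lam a := by
    intro t a
    have h := hlamV a t
    rwa [phi, sub_eq_zero] at h
  have f2 : ∀ t b : F, Helper5.uSL t • mu b = mu b + lam (t * b) := by
    intro t b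
    rw [u_smul, K1]
  have f3 : ∀ s a : F, Helper5.lSL s • lam a = lam a + mu (s * a) := by
    intro s a
    rw [l_smul, K2]
  have f4 : ∀ s b : F, Helper5.lSL s • mu b = mu b := by
    intro s b
    have h := hmuW b s
    rwa [psi, sub_eq_zero] at h
  refine ⟨lam, mu, ?_, ?_, f1, f2, f3, f4⟩
  · let N : AddSubgroup M :=
      { carrier := {m | ∃ a b : F, m = lam a + mu b}
        zero_mem' := ⟨0, 0, by simp⟩
        add_mem' := by
          rintro _ _ ⟨a, b, rfl⟩ ⟨a', b', rfl⟩
          exact ⟨a + a', b + b', by rw [map_add, map_add]; abel⟩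
        neg_mem' := by
          rintro _ ⟨a, b, rfl⟩
          exact ⟨-a, -b, by rw [map_neg, map_neg]; abel⟩ }
    have hNu : ∀ (t : F), ∀ m ∈ N, Helper5.uSL t • m ∈ N := by
      rintro t _ ⟨a, b, rfl⟩
      refine ⟨a + t * b, b, ?_⟩
      rw [smul_add, f1 t a, f2 t b, map_add]
      abel
    have hNl : ∀ (s : F), ∀ m ∈ N, Helper5.lSL s • m ∈ N := by
      rintro s _ ⟨a, b, rfl⟩
      refine ⟨a, s * a + b, ?_⟩
      rw [smul_add, f3, f4, map_add]
      abel
    rcases hirr N (fun g m hm => ginv N hNu hNl g m hm) with h | h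
    · exfalso
      apply hv0ne
      have hm : v0 ∈ N := ⟨1, 0, by rw [hL1, map_zero, add_zero]⟩
      rw [h] at hm
      exact AddSubgroup.mem_bot.mp hm
    · intro m
      have hm : m ∈ N := h ▸ AddSubgroup.mem_top m
      exact hm
  · intro a b hab
    have hla : lam a = 0 := by
      apply inter_zero hirr hnt
      · exact hlamV a
      · intro s
        have h1 : lam a = -mu b := eq_neg_of_add_eq_zero_left hab
        rw [h1, psi_neg, hmuW, neg_zero]
    have hmb : mu b = 0 := by
      rw [hla, zero_add] at hab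
      exact hab
    constructor
    · by_contra ha
      apply hv0ne
      have h1 : lam 1 = phi a⁻¹ (psi (1 : F) (lam a)) := by
        have h := L_mul hirr hnt hU hL (inv_ne_zero ha) ha v0 hv0
        rw [inv_mul_cancel₀ ha] at h
        exact h
      rw [hL1, hla, psi_zero', phi_zero'] at h1
      exact h1
    · by_contra hb
      apply hv0ne
      have h0 := (nn_v hirr hnt hU hL (inv_ne_zero hb) v0 hv0).1
      rw [inv_inv] at h0
      have h1 : psi b v0 = 0 := hmb
      rw [h1, phi_zero'] at h0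
      exact h0.symm

end Cfsg.Agent.Helper61
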