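import Mathlib
import Cfsg.Prelude.Def_Characters
import Cfsg.Agent.Helper3.Induced
import Cfsg.Agent.Helper79.Basic
import Cfsg.Agent.Helper61.Q8Basic

/-!
# Restriction of characters to `Z4` and `Q8`: multiplicities are natural numbers

Numeric consequences of "the multiplicity of a linear character in a restricted character is a
natural number", for cyclic groups of order 4 and the quaternion group of order 8.
Used for the Brauer–Suzuki theorem (quaternion Sylow 2-subgroup of order 8).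
-/

set_option autoImplicit false

namespace Cfsg.Agent.Helper61

open scoped ComplexConjugate

/-- Pull-back multiplicity: for a character `χ` of `G`, a homomorphism `φ : Q →* G` from a finite
group and a linear character `lam` of `Q`, the sum `∑ χ(φ q) conj(lam q)` is `|Q|` times a natural
number. -/
theorem sum_comp_linear_nat {G : Type*} [Group G] {Q : Type*} [Group Q] [Fintype Q]
    {χ : G → ℂ} (h : Cfsg.IsCharacter G χ) (φ : Q →* G) (lam : Q →* ℂˣ) :
    ∃ n : ℕ, ∑ q : Q, χ (φ q) * conj ((lam q : ℂˣ) : ℂ) = (Fintype.card Q : ℂ) * n := by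
  have h1 : Cfsg.IsCharacter Q (fun q => χ (φ q)) := Helper79.isCharacter_comp h φ
  have h2 : Cfsg.IsCharacter Q (fun q => ((lam q : ℂˣ) : ℂ)) :=
    Helper79.isCharacter_of_irr (Helper79.isIrrCharacter_of_hom lam)
  obtain ⟨n, hn⟩ := Helper3.classInner_isCharacter_nat h1 h2
  refine ⟨n, ?_⟩
  unfold Cfsg.classInner at hn
  have hc : (Nat.card Q : ℂ) ≠ 0 := by exact_mod_cast Nat.card_pos.ne'
  rw [← Nat.card_eq_fintype_card, ← hn, mul_inv_cancel_left₀ hc]

/-! ### The cyclic group of order 4 -/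

/-- The homomorphism `ℤ/4 → G` sending the generator to an element `y` with `y ^ 4 = 1`. -/
noncomputable def z4Hom {G : Type*} [Group G] (y : G) (hy : y ^ 4 = 1) :
    Multiplicative (ZMod 4) →* G where
  toFun k := y ^ (Multiplicative.toAdd k).val
  map_one' := by simp
  map_mul' a b := by
    rw [toAdd_mul, ZMod.val_add, ← pow_add]
    exact (pow_eq_pow_mod _ hy).symm

theorem z4Hom_apply {G : Type*} [Group G] (y : G) (hy : y ^ 4 = 1) (k : ZMod 4) :
    z4Hom y hy (Multiplicative.ofAdd k) = y ^ k.val := rfl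

theorem sum_mult_z4 {M : Type*} [AddCommMonoid M] (F : Multiplicative (ZMod 4) → M) :
    ∑ q : Multiplicative (ZMod 4), F q =
      F (Multiplicative.ofAdd 0) + F (Multiplicative.ofAdd 1) + F (Multiplicative.ofAdd 2) +
        F (Multiplicative.ofAdd 3) := by
  rw [← Fintype.sum_equiv (Multiplicative.ofAdd (α := ZMod 4)) (fun k => F (Multiplicative.ofAdd k)) F
    (fun _ => rfl)]
  exact Fin.sum_univ_four (fun k : Fin 4 => F (Multiplicative.ofAdd (k : ZMod 4)))

/-- The unit `I` of `ℂ`. -/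
noncomputable def unitI : ℂˣ := ⟨Complex.I, -Complex.I, by simp, by simp⟩

theorem unitI_pow_four : unitI ^ 4 = 1 := by
  ext
  simp [unitI, Complex.I_pow_four]

theorem negOne_pow_four : (-1 : ℂˣ) ^ 4 = 1 := by
  ext
  norm_num

/-- Restriction to a cyclic subgroup of order (dividing) 4, numeric form. If `y ^ 4 = 1` and
`χ(y⁻¹) = χ(y)`, then `(χ(1) - χ(y²))/4`, `(χ(1) + χ(y²) + 2χ(y))/4`, `(χ(1) + χ(y²) - 2χ(y))/4`
are natural numbers (multiplicities of the faithful, the trivial and the sign character). -/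
theorem res_z4 {G : Type*} [Group G] {χ : G → ℂ} (h : Cfsg.IsCharacter G χ) (y : G)
    (hy : y ^ 4 = 1) (hinv : χ y⁻¹ = χ y) :
    ∃ e m m' : ℕ, χ 1 - χ (y ^ 2) = 4 * e ∧ χ 1 + χ (y ^ 2) + 2 * χ y = 4 * m ∧
      χ 1 + χ (y ^ 2) - 2 * χ y = 4 * m' := by
  have hy3 : y ^ 3 = y⁻¹ := by
    rw [eq_inv_iff_mul_eq_one, ← pow_succ]
    exact hy
  have hv0 : (0 : ZMod 4).val = 0 := rfl
  have hv1 : (1 : ZMod 4).val = 1 := rfl
  have hv2 : (2 : ZMod 4).val = 2 := rfl
  have hv3 : (3 : ZMod 4).val = 3 := rfl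
  obtain ⟨e, he⟩ := sum_comp_linear_nat h (z4Hom y hy) (z4Hom unitI unitI_pow_four)
  obtain ⟨m, hm⟩ := sum_comp_linear_nat h (z4Hom y hy) (1 : Multiplicative (ZMod 4) →* ℂˣ)
  obtain ⟨m', hm'⟩ := sum_comp_linear_nat h (z4Hom y hy) (z4Hom (-1 : ℂˣ) negOne_pow_four)
  have hcard : (Fintype.card (Multiplicative (ZMod 4)) : ℂ) = 4 := by
    simp [ZMod.card]
  rw [sum_mult_z4, hcard] at he hm hm'
  simp only [z4Hom_apply, hv0, hv1, hv2, hv3, pow_zero, pow_one, hy3, hinv] at he hm hm'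
  refine ⟨e, m, m', ?_, ?_, ?_⟩
  · rw [← he]
    simp [unitI, pow_succ]
    ring
  · rw [← hm]
    simp
    ring
  · rw [← hm']
    simp [pow_succ]
    ring

/-! ### The quaternion group of order 8 -/

/-- The linear character of `Q8` with kernel `⟨a⟩`. -/
noncomputable def q8Sign : QuaternionGroup 2 →* ℂˣ where
  toFun q := match q with
    | .a _ => 1
    | .xa _ => -1
  map_one' := rfl
  map_mul' := by
    rintro (i | i) (j | j) <;> simp

theorem q8Sign_a (i : ZMod (2 * 2)) : q8Sign (.a i) = 1 := rfl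

theorem q8Sign_xa (i : ZMod (2 * 2)) : q8Sign (.xa i) = -1 := rfl

/-- Pull-back to `Q8`, numeric form (multiplicities of the sign character with kernel `⟨a⟩` and
of the trivial character). -/
theorem res_q8_hom {G : Type*} [Group G] {χ : G → ℂ} (h : Cfsg.IsCharacter G χ)
    (φ : QuaternionGroup 2 →* G) :
    ∃ c c0 : ℕ,
      χ (φ (.a 0)) + χ (φ (.a 1)) + χ (φ (.a 2)) + χ (φ (.a 3)) -
        (χ (φ (.xa 0)) + χ (φ (.xa 1)) + χ (φ (.xa 2)) + χ (φ (.xa 3))) = 8 * c ∧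
      χ (φ (.a 0)) + χ (φ (.a 1)) + χ (φ (.a 2)) + χ (φ (.a 3)) +
        (χ (φ (.xa 0)) + χ (φ (.xa 1)) + χ (φ (.xa 2)) + χ (φ (.xa 3))) = 8 * c0 := by
  obtain ⟨c, hc⟩ := sum_comp_linear_nat h φ q8Sign
  obtain ⟨c0, hc0⟩ := sum_comp_linear_nat h φ (1 : QuaternionGroup 2 →* ℂˣ)
  have hcard : (Fintype.card (QuaternionGroup 2) : ℂ) = 8 := by
    rw [QuaternionGroup.card]
    norm_num
  rw [sum_q8, hcard] at hc hc0
  refine ⟨c, c0, ?_, ?_⟩
  · rw [← hc]
    simp only [q8Sign_a, q8Sign_xa]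
    simp
    ring
  · rw [← hc0]
    simp

/-- Restriction to a quaternion subgroup `P` of order 8 in which all elements of order 4 have the
same character value `χ(y)`; `u` is the involution of `P`. Then `(χ(1) + χ(u) - 2χ(y))/8` and
`(χ(1) + χ(u) + 6χ(y))/8` are natural numbers. -/
theorem res_q8 {G : Type*} [Group G] {χ : G → ℂ} (h : Cfsg.IsCharacter G χ) (P : Subgroup G)
    (e : P ≃* QuaternionGroup 2) (y u : G) (hu : u ∈ P) (hu2 : orderOf u = 2)
    (hP : ∀ x ∈ P, orderOf x = 4 → χ x = χ y) :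
    ∃ c c0 : ℕ, χ 1 + χ u - 2 * χ y = 8 * c ∧ χ 1 + χ u + 6 * χ y = 8 * c0 := by
  set φ : QuaternionGroup 2 →* G := P.subtype.comp e.symm.toMonoidHom with hφ
  have hφq : ∀ q, φ q = ((e.symm q : P) : G) := fun q => rfl
  have hord : ∀ q, orderOf (φ q) = orderOf q := by
    intro q
    rw [hφq, Subgroup.orderOf_coe, MulEquiv.orderOf_eq]
  have h4 : ∀ q : QuaternionGroup 2, q ≠ .a 0 → q ≠ .a 2 → χ (φ q) = χ y := fun q h0 h2 =>
    hP _ (by rw [hφq]; exact SetLike.coe_mem _) (by rw [hord]; exact q8_orderOf_eq_four h0 h2)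
  have h1 : φ (.a 0) = 1 := map_one φ
  have hu' : φ (.a 2) = u := by
    have : e ⟨u, hu⟩ = .a 2 :=
      q8_eq_a_two_of_orderOf (by rw [MulEquiv.orderOf_eq, Subgroup.orderOf_mk]; exact hu2)
    rw [← this, hφq]
    simp
  obtain ⟨c, c0, hc, hc0⟩ := res_q8_hom h φ
  rw [h1, hu', h4 (.a 1) (by decide) (by decide), h4 (.a 3) (by decide) (by decide),
    h4 (.xa 0) (by decide) (by decide), h4 (.xa 1) (by decide) (by decide),
    h4 (.xa 2) (by decide) (by decide), h4 (.xa 3) (by decide) (by decide)] at hc hc0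
  refine ⟨c, c0, ?_, ?_⟩
  · rw [← hc]; ring
  · rw [← hc0]; ring

/-- If `y ^ 4 = 1` and `χ(y⁻¹) = χ(y)` then `χ(y)` is a rational integer. -/
theorem res_z4_int {G : Type*} [Group G] {χ : G → ℂ} (h : Cfsg.IsCharacter G χ) (y : G)
    (hy : y ^ 4 = 1) (hinv : χ y⁻¹ = χ y) : ∃ k : ℤ, χ y = k := by
  obtain ⟨e, m, m', -, hm, hm'⟩ := res_z4 h y hy hinv
  refine ⟨(m : ℤ) - m', ?_⟩
  push_cast
  linear_combination (1 / 4 : ℂ) * hm - (1 / 4 : ℂ) * hm'

/-- Combined form of the restriction to a quaternion subgroup `P` of order 8 in which all elements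
of order 4 have the character value `χ(y)`: with `r = [χ|⟨y⟩, faithful]` and
`c = [χ|P, sign]`, `χ(1) = 4c + χ(y) + 2r` and `χ(y²) = χ(1) - 4r`. -/
theorem res_q8' {G : Type*} [Group G] {χ : G → ℂ} (h : Cfsg.IsCharacter G χ) (P : Subgroup G)
    (e : P ≃* QuaternionGroup 2) (y : G) (hy : y ∈ P) (hy4 : orderOf y = 4)
    (hP : ∀ x ∈ P, orderOf x = 4 → χ x = χ y) :
    ∃ r c : ℕ, χ 1 = 4 * c + χ y + 2 * r ∧ χ (y ^ 2) = χ 1 - 4 * r := by
  have hy41 : y ^ 4 = 1 := by rw [← hy4]; exact pow_orderOf_eq_one y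
  have hinv : χ y⁻¹ = χ y := hP _ (P.inv_mem hy) (by rw [orderOf_inv]; exact hy4)
  have hu2 : orderOf (y ^ 2) = 2 := by
    rw [orderOf_pow_of_dvd (by norm_num) (by rw [hy4]; norm_num), hy4]
  obtain ⟨r, -, -, hr, -, -⟩ := res_z4 h y hy41 hinv
  obtain ⟨c, -, hc, -⟩ := res_q8 h P e y (y ^ 2) (P.pow_mem hy 2) hu2 hP
  refine ⟨r, c, ?_, ?_⟩
  · linear_combination (1 / 2 : ℂ) * hr + (1 / 2 : ℂ) * hc
  · linear_combination -hr

end Cfsg.Agent.Helper61
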