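import Mathlib

set_option autoImplicit false

namespace Cfsg.Agent.Helper61.TEXC2a

open Matrix Polynomial
open scoped Kronecker

/-! ## Piece XC2a -/
theorem exists_irred_factor {F : Type*} [Field F] [Fintype F] (r : ℕ) (hr : r.Prime)
    (hrF : (r : F) ≠ 0) :
    ∃ Φ : F[X], Φ.Monic ∧ Irreducible Φ ∧ Φ.Separable ∧ Φ ∣ X ^ r - 1 ∧ Φ.eval 1 ≠ 0 ∧
      ∀ j' : ℕ, 0 < j' → r ∣ Fintype.card F ^ j' - 1 → Φ.natDegree ≤ j' := by
  classical
  set Ψ : F[X] := ∑ i ∈ Finset.range r, X ^ i with hΨ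
  have hΨmul : Ψ * (X - 1) = X ^ r - 1 := geom_sum_mul X r
  have hΨ1 : Ψ.eval 1 = (r : F) := by
    rw [hΨ, Polynomial.eval_geom_sum]
    simp
  have hΨmonic : Ψ.Monic := Polynomial.monic_geom_sum_X hr.ne_zero
  have hΨnu : ¬ IsUnit Ψ := by
    intro hu
    have h1 : Ψ = 1 := hΨmonic.eq_one_of_isUnit hu
    have h2 := hΨmul
    rw [h1, one_mul] at h2
    have h3 := congrArg Polynomial.natDegree h2
    rw [← Polynomial.C_1, Polynomial.natDegree_X_sub_C, Polynomial.natDegree_X_pow_sub_C] at h3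
    exact hr.one_lt.ne h3
  obtain ⟨Φ, hΦm, hΦi, hΦd⟩ := Polynomial.exists_monic_irreducible_factor Ψ hΨnu
  have hΦX : Φ ∣ X ^ r - 1 := hΦd.trans ⟨X - 1, hΨmul.symm⟩
  refine ⟨Φ, hΦm, hΦi, PerfectField.separable_of_irreducible hΦi, hΦX, ?_, ?_⟩
  · intro h0
    apply hrF
    rw [← hΨ1]
    exact Polynomial.eval_eq_zero_of_dvd_of_eval_eq_zero hΦd h0
  · intro j hj hdvd
    have h1 : Φ ∣ X ^ (Nat.card F) ^ j - X := by
      have hq : 1 ≤ Fintype.card F ^ j := Nat.one_le_pow _ _ Fintype.card_pos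
      obtain ⟨k, hk⟩ := hdvd
      have h2 : (X : F[X]) ^ r - 1 ∣ X ^ (Fintype.card F ^ j - 1) - 1 := by
        rw [hk, pow_mul]
        simpa using sub_dvd_pow_sub_pow ((X : F[X]) ^ r) 1 k
      have h3 : (X : F[X]) ^ (Nat.card F) ^ j - X = X * (X ^ (Fintype.card F ^ j - 1) - 1) := by
        rw [Nat.card_eq_fintype_card, mul_sub, mul_one, ← pow_succ', Nat.sub_add_cancel hq]
      rw [h3]
      exact Dvd.dvd.mul_left (hΦX.trans h2) _
    exact Nat.le_of_dvd hj (hΦi.natDegree_dvd_of_dvd_X_pow_card_pow_sub_X h1)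

end Cfsg.Agent.Helper61.TEXC2a
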