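import Mathlib
import Cfsg.Agent.Helper13.TLDefs
import Cfsg.Agent.Helper61.TLUMODELALL
import Cfsg.Agent.Helper51.TLUEXND
import Cfsg.Agent.Helper13.TLUJTSUB

/-!
helper61: piece CASEAB (u_case_p_back) of CALL S5954 (helper13), double.
-/

set_option autoImplicit false
set_option linter.unusedVariables false

namespace Cfsg.Agent.Helper61.TI5954

open Module Polynomial
open Cfsg.Agent.Helper13.TIu Cfsg.Agent.Helper13.TIsp
open Cfsg.Agent.Helper51.TI5954 Cfsg.Agent.Helper13.TI5954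

section cases

variable {F : Type*} [Field F] [Fintype F] {σ : F →+* F}

/-- CASEAB (uses UMODELALL, UJTSUB, UEXND; mirror `p_fwd`): for `μ` take the model `T` (`det T = 1`
since `(det T) ^ p = 1` in characteristic `p`; `T` is not scalar, else a nondegenerate `m`-space
(UEXND) would be invariant and UJTSUB gives `ν`); `UAll` gives `W`, UJTSUB gives `ν`. -/
theorem u_case_p_back (p : ℕ) [Fact p.Prime] [CharP F p] (q : ℕ) (hq : Fintype.card F = q ^ 2)
    (hσ : ∀ a, σ a = a ^ q) (hσ2 : ∀ a, σ (σ a) = a) (hσne : σ ≠ RingHom.id F) (n m : ℕ)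
    (hn : 1 ≤ n) (hmn : m ≤ n) (hL : UAll σ n m p) :
    ∀ μ : Multiset ℕ, (∀ a ∈ μ, 0 < a ∧ a ≤ p) → μ.sum = n →
      ∃ ν : Multiset ℕ, ν ≤ μ ∧ ν.sum = m := by
  intro μ hμ hsum
  have hpp : p.Prime := Fact.out
  obtain ⟨T, hT, hTp, hJT⟩ := umodel_all (σ := σ) hσ2 hσne p μ hμ n hsum
  have hdet1 : LinearMap.det T = 1 := by
    have h1 : LinearMap.det T ^ p = 1 := by
      rw [← map_pow, hTp, map_one]
    have h2 : (LinearMap.det T - 1) ^ p = 0 := by
      rw [sub_pow_char, h1, one_pow, sub_self]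
    exact sub_eq_zero.mp (pow_eq_zero_iff hpp.ne_zero |>.mp h2)
  have hS := stdH_symm σ hσ2 n
  have hfr : finrank F (⊤ : Submodule F (Fin n → F)) = n := by
    rw [finrank_top, Module.finrank_fin_fun]
  have hNp : (T - 1) ^ p = 0 := by
    have h1 := hJT p
    have h2 : (μ.map (fun a => min a p)).sum = n := by
      rw [← hsum]
      congr 1
      conv_rhs => rw [← Multiset.map_id μ]
      exact Multiset.map_congr rfl (fun a ha => min_eq_left (hμ a ha).2)
    rw [h2, top_inf_eq] at h1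
    have h3 : LinearMap.ker ((T - 1) ^ p) = ⊤ := by
      apply Submodule.eq_top_of_finrank_eq
      rw [h1, Module.finrank_fin_fun]
    exact LinearMap.ker_eq_top.mp h3
  have hW : ∃ W : Submodule F (Fin n → F), Module.finrank F W = m ∧ UNd (stdH σ n) W ∧
      W.map T ≤ W := by
    by_cases hsc : ∃ c : F, T = c • (1 : Module.End F (Fin n → F))
    · obtain ⟨c, hc⟩ := hsc
      obtain ⟨W, -, hWnd, hWm⟩ := u_exists_nd (stdH σ n) hσ2 hσne hS ⊤ (stdH_nd_top σ n) m
        (by rw [hfr]; exact hmn)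
      refine ⟨W, hWm, hWnd, ?_⟩
      rintro _ ⟨w, hw, rfl⟩
      rw [hc]
      exact W.smul_mem c hw
    · push Not at hsc
      exact hL T hT hdet1 ⟨1, by rw [hTp, one_smul]⟩ hsc
  obtain ⟨W, hWm, hWnd, hWT⟩ := hW
  obtain ⟨ν, hν, hνs⟩ := u_jt_sub (stdH σ n) hσ2 hσne hS (stdH_nd_top σ n) T hT p hpp.pos hTp p
    hNp μ (fun a ha => (hμ a ha).1) hJT W hWT hWnd
  exact ⟨ν, hν, by rw [hνs, hWm]⟩

end cases

end Cfsg.Agent.Helper61.TI5954
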