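import Mathlib
import Cfsg.Prelude.Def_GeometricClasses
import Cfsg.Prelude.Def_Classical
import Cfsg.Agent.Helper45.Spinor

/-!
helper61: core of piece SKOMEGA of sub-CALL TSR2 (helper90).  An isometry `g` with `g² = -1`
together with an orthogonal family `v j, g (v j)` (`j < d`, `dim = 2 d`) of nonsingular vectors is
the product of the `2 d` reflections in `v j + g (v j)`, `v j`; spinor norm `2 ^ d` times a square.
-/

set_option autoImplicit false

namespace Cfsg.Agent.Helper61.TSR2

open Module Cfsg Matrix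

section core

variable {ι : Type} [Fintype ι] [DecidableEq ι] {F : Type*} [Field F]

/-- the product of the two reflections attached to the index `j` -/
noncomputable def skT (Q : QuadraticForm F (ι → F)) (M : Matrix ι ι F) {d : ℕ}
    (v : Fin d → (ι → F)) (j : Fin d) : Matrix ι ι F :=
  reflectionMatrix ⇑Q (v j + M *ᵥ v j) * reflectionMatrix ⇑Q (v j)

theorem skom_flat (Q : QuadraticForm F (ι → F)) (M : Matrix ι ι F) {d : ℕ}
    (v : Fin d → (ι → F)) (L : List (Fin d)) :
    ((L.flatMap (fun j => [v j + M *ᵥ v j, v j])).map (fun u => reflectionMatrix ⇑Q u)).prod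
      = (L.map (skT Q M v)).prod := by
  induction L with
  | nil => simp
  | cons j L ih =>
    simp only [List.flatMap_cons, List.map_append, List.prod_append, List.map_cons, List.map_nil,
      List.prod_cons, List.prod_nil, mul_one, ih, skT]

omit [DecidableEq ι] in
theorem skom_len {d : ℕ} (M : Matrix ι ι F) (v : Fin d → (ι → F)) (L : List (Fin d)) :
    (L.flatMap (fun j => [v j + M *ᵥ v j, v j])).length = 2 * L.length := by
  induction L with
  | nil => simp
  | cons j L ih =>
    simp only [List.flatMap_cons, List.length_append, List.length_cons, List.length_nil, ih]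
    omega

omit [DecidableEq ι] in
theorem skom_qprod (Q : QuadraticForm F (ι → F)) (M : Matrix ι ι F) {d : ℕ}
    (v : Fin d → (ι → F)) (hQw : ∀ j, Q (v j + M *ᵥ v j) = 2 * Q (v j)) (L : List (Fin d)) :
    ((L.flatMap (fun j => [v j + M *ᵥ v j, v j])).map (fun u => Q u)).prod
      = (L.map (fun j => Q (v j))).prod * (L.map (fun j => Q (v j))).prod * 2 ^ L.length := by
  induction L with
  | nil => simp
  | cons j L ih =>
    simp only [List.flatMap_cons, List.map_append, List.prod_append, List.map_cons, List.map_nil,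
      List.prod_cons, List.prod_nil, mul_one, ih, List.length_cons, hQw]
    ring

theorem skom_core [Fintype F] (Q : QuadraticForm F (ι → F)) (h2 : (2 : F) ≠ 0)
    (hQ : (QuadraticMap.polarBilin Q).Nondegenerate) (d : ℕ) (hd : 1 ≤ d)
    (hcard : Fintype.card ι = 2 * d) (g : ↥(Cfsg.isometryGroup F ⇑Q))
    (hg2 : ((g : GL ι F) : Matrix ι ι F) * ((g : GL ι F) : Matrix ι ι F) = -1)
    (v : Fin d → (ι → F)) (hv : ∀ j, Q (v j) ≠ 0)
    (horth : ∀ j l, j ≠ l → QuadraticMap.polar ⇑Q (v j) (v l) = 0 ∧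
      QuadraticMap.polar ⇑Q (v j) (((g : GL ι F) : Matrix ι ι F) *ᵥ (v l)) = 0) :
    g ∈ Cfsg.Omega F ⇑Q ↔ IsSquare ((2 : F) ^ d) := by
  obtain ⟨M, hMdef⟩ : ∃ M : Matrix ι ι F, M = ((g : GL ι F) : Matrix ι ι F) := ⟨_, rfl⟩
  rw [← hMdef] at hg2 horth
  have hM : ∀ x, Q (M *ᵥ x) = Q x := by
    intro x
    rw [hMdef]
    exact Cfsg.Agent.Helper45.mv_quad ⇑Q g x
  have hMM : ∀ x, M *ᵥ (M *ᵥ x) = -x := by
    intro x
    rw [Matrix.mulVec_mulVec, hg2, Matrix.neg_mulVec, Matrix.one_mulVec]
  have hMp : ∀ x y, QuadraticMap.polar ⇑Q (M *ᵥ x) (M *ᵥ y) = QuadraticMap.polar ⇑Q x y := by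
    intro x y
    unfold QuadraticMap.polar
    rw [← Matrix.mulVec_add, hM, hM, hM]
  have hself : ∀ x, QuadraticMap.polar ⇑Q x (M *ᵥ x) = 0 := by
    intro x
    have e := hMp x (M *ᵥ x)
    rw [hMM, QuadraticMap.polar_neg_right, QuadraticMap.polar_comm ⇑Q (M *ᵥ x) x] at e
    have e2 : (2 : F) * QuadraticMap.polar ⇑Q x (M *ᵥ x) = 0 := by
      linear_combination (-1 : F) * e
    exact (mul_eq_zero.mp e2).resolve_left h2
  have hpself : ∀ x, QuadraticMap.polar ⇑Q x x = 2 * Q x := by
    intro x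
    rw [QuadraticMap.polar_self, nsmul_eq_mul]
    norm_num
  have hQw : ∀ j, Q (v j + M *ᵥ v j) = 2 * Q (v j) := by
    intro j
    rw [Cfsg.Agent.Helper13.Q_add', hM, hself]
    ring
  have hQw0 : ∀ j, Q (v j + M *ᵥ v j) ≠ 0 := by
    intro j
    rw [hQw]
    exact mul_ne_zero h2 (hv j)
  -- the two reflections of index `j` fix the vectors orthogonal to `v j`, `M (v j)`
  have Tfix : ∀ j x, QuadraticMap.polar ⇑Q (v j) x = 0 →
      QuadraticMap.polar ⇑Q (M *ᵥ v j) x = 0 → skT Q M v j *ᵥ x = x := by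
    intro j x h1 h3
    unfold skT
    rw [← Matrix.mulVec_mulVec, Cfsg.Agent.Helper13.reflectionMatrix_mulVec Q (v j) x, h1,
      mul_zero, zero_smul, sub_zero, Cfsg.Agent.Helper13.reflectionMatrix_mulVec,
      QuadraticMap.polar_add_left, h1, h3, add_zero, mul_zero, zero_smul, sub_zero]
  have Tv : ∀ j, skT Q M v j *ᵥ v j = M *ᵥ v j := by
    intro j
    have e1 : reflectionMatrix ⇑Q (v j) *ᵥ v j = -(v j) := by
      rw [Cfsg.Agent.Helper13.reflectionMatrix_mulVec, hpself]
      have e : (Q (v j))⁻¹ * (2 * Q (v j)) = 2 := by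
        rw [mul_comm 2, ← mul_assoc, inv_mul_cancel₀ (hv j), one_mul]
      rw [e, two_smul]
      abel
    have e2 : reflectionMatrix ⇑Q (v j + M *ᵥ v j) *ᵥ (-(v j)) = M *ᵥ v j := by
      rw [Cfsg.Agent.Helper13.reflectionMatrix_mulVec, QuadraticMap.polar_neg_right,
        QuadraticMap.polar_add_left, hpself, QuadraticMap.polar_comm ⇑Q (M *ᵥ v j) (v j),
        hself, hQw]
      have e : (2 * Q (v j))⁻¹ * -(2 * Q (v j) + 0) = -1 := by
        have h0 : (2 : F) * Q (v j) ≠ 0 := mul_ne_zero h2 (hv j)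
        rw [add_zero, mul_neg, inv_mul_cancel₀ h0]
      rw [e, neg_one_smul]
      abel
    unfold skT
    rw [← Matrix.mulVec_mulVec, e1, e2]
  have TMv : ∀ j, skT Q M v j *ᵥ (M *ᵥ v j) = -(v j) := by
    intro j
    have e1 : reflectionMatrix ⇑Q (v j) *ᵥ (M *ᵥ v j) = M *ᵥ v j := by
      rw [Cfsg.Agent.Helper13.reflectionMatrix_mulVec, hself, mul_zero, zero_smul, sub_zero]
    have e2 : reflectionMatrix ⇑Q (v j + M *ᵥ v j) *ᵥ (M *ᵥ v j) = -(v j) := by
      rw [Cfsg.Agent.Helper13.reflectionMatrix_mulVec, QuadraticMap.polar_add_left, hself,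
        hpself, hM, hQw]
      have e : (2 * Q (v j))⁻¹ * (0 + 2 * Q (v j)) = 1 := by
        have h0 : (2 : F) * Q (v j) ≠ 0 := mul_ne_zero h2 (hv j)
        rw [zero_add, inv_mul_cancel₀ h0]
      rw [e, one_smul]
      abel
    unfold skT
    rw [← Matrix.mulVec_mulVec, e1, e2]
  -- orthogonality relations
  have o1 : ∀ j l, j ≠ l → QuadraticMap.polar ⇑Q (v j) (v l) = 0 := fun j l h => (horth j l h).1
  have o2 : ∀ j l, j ≠ l → QuadraticMap.polar ⇑Q (v j) (M *ᵥ v l) = 0 :=
    fun j l h => (horth j l h).2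
  have o3 : ∀ j l, j ≠ l → QuadraticMap.polar ⇑Q (M *ᵥ v j) (v l) = 0 := by
    intro j l h
    rw [QuadraticMap.polar_comm]
    exact o2 l j (Ne.symm h)
  have o4 : ∀ j l, j ≠ l → QuadraticMap.polar ⇑Q (M *ᵥ v j) (M *ᵥ v l) = 0 := by
    intro j l h
    rw [hMp]
    exact o1 j l h
  -- list products
  have fixL : ∀ (L : List (Fin d)) (x : ι → F),
      (∀ j ∈ L, QuadraticMap.polar ⇑Q (v j) x = 0 ∧ QuadraticMap.polar ⇑Q (M *ᵥ v j) x = 0) →
      (L.map (skT Q M v)).prod *ᵥ x = x := by
    intro L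
    induction L with
    | nil =>
      intro x _
      simp
    | cons j L ih =>
      intro x hx
      rw [List.map_cons, List.prod_cons, ← Matrix.mulVec_mulVec,
        ih x (fun j' hj' => hx j' (List.mem_cons_of_mem _ hj'))]
      exact Tfix j x (hx j List.mem_cons_self).1 (hx j List.mem_cons_self).2
  have actL : ∀ (L : List (Fin d)), L.Nodup → ∀ l ∈ L,
      (L.map (skT Q M v)).prod *ᵥ v l = M *ᵥ v l ∧
      (L.map (skT Q M v)).prod *ᵥ (M *ᵥ v l) = -(v l) := by
    intro L
    induction L with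
    | nil =>
      intro _ l hl
      exact absurd hl List.not_mem_nil
    | cons j L ih =>
      intro hnd l hl
      rw [List.nodup_cons] at hnd
      rw [List.map_cons, List.prod_cons, ← Matrix.mulVec_mulVec, ← Matrix.mulVec_mulVec]
      rcases List.mem_cons.mp hl with rfl | hl'
      · have hne : ∀ j' ∈ L, j' ≠ l := by
          rintro j' hj' rfl
          exact hnd.1 hj'
        rw [fixL L (v l) (fun j' hj' => ⟨o1 j' l (hne j' hj'), o3 j' l (hne j' hj')⟩),
          fixL L (M *ᵥ v l) (fun j' hj' => ⟨o2 j' l (hne j' hj'), o4 j' l (hne j' hj')⟩)]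
        exact ⟨Tv l, TMv l⟩
      · have hjl : j ≠ l := by
          rintro rfl
          exact hnd.1 hl'
        obtain ⟨i1, i2⟩ := ih hnd.2 l hl'
        rw [i1, i2]
        refine ⟨Tfix j _ (o2 j l hjl) (o4 j l hjl), Tfix j _ ?_ ?_⟩
        · rw [QuadraticMap.polar_neg_right, o1 j l hjl, neg_zero]
        · rw [QuadraticMap.polar_neg_right, o3 j l hjl, neg_zero]
  -- the family `v j`, `M (v j)` spans
  have hli : LinearIndependent F (Sum.elim v (fun j => M *ᵥ v j)) := by
    apply LinearMap.BilinForm.linearIndependent_of_iIsOrtho (B := QuadraticMap.polarBilin Q)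
    · intro a b hab
      show QuadraticMap.polarBilin Q _ _ = 0
      rw [QuadraticMap.polarBilin_apply_apply]
      rcases a with a | a <;> rcases b with b | b
      · exact o1 a b (fun h => hab (by rw [h]))
      · by_cases h : a = b
        · rw [h]
          exact hself _
        · exact o2 a b h
      · by_cases h : a = b
        · rw [h]
          show QuadraticMap.polar ⇑Q (M *ᵥ v b) (v b) = 0
          rw [QuadraticMap.polar_comm]
          exact hself _
        · exact o3 a b h
      · exact o4 a b (fun h => hab (by rw [h]))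
    · intro a
      rw [QuadraticMap.polarBilin_apply_apply, hpself]
      rcases a with a | a
      · exact mul_ne_zero h2 (hv a)
      · show (2 : F) * Q (M *ᵥ v a) ≠ 0
        rw [hM]
        exact mul_ne_zero h2 (hv a)
  have hspan : Submodule.span F (Set.range (Sum.elim v (fun j => M *ᵥ v j))) = ⊤ := by
    apply hli.span_eq_top_of_card_eq_finrank'
    rw [Fintype.card_sum, Fintype.card_fin, Module.finrank_fintype_fun_eq_card, hcard]
    ring
  have hall : ∀ x : ι → F, ((List.finRange d).map (skT Q M v)).prod *ᵥ x = M *ᵥ x := by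
    intro x
    have hx : x ∈ Submodule.span F (Set.range (Sum.elim v (fun j => M *ᵥ v j))) := by
      rw [hspan]
      exact Submodule.mem_top
    induction hx using Submodule.span_induction with
    | mem y hy =>
      obtain ⟨a, rfl⟩ := hy
      rcases a with a | a
      · exact (actL _ (List.nodup_finRange d) a (List.mem_finRange a)).1
      · show ((List.finRange d).map (skT Q M v)).prod *ᵥ (M *ᵥ v a) = M *ᵥ (M *ᵥ v a)
        rw [(actL _ (List.nodup_finRange d) a (List.mem_finRange a)).2, hMM]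
    | zero => rw [Matrix.mulVec_zero, Matrix.mulVec_zero]
    | add y z _ _ hy hz => rw [Matrix.mulVec_add, Matrix.mulVec_add, hy, hz]
    | smul c y _ hy => rw [Matrix.mulVec_smul, Matrix.mulVec_smul, hy]
  have hMeq : M = (((List.finRange d).flatMap (fun j => [v j + M *ᵥ v j, v j])).map
      (fun u => reflectionMatrix ⇑Q u)).prod := by
    rw [skom_flat]
    exact Cfsg.Agent.Helper13.mulVec_ext _ _ (fun x => (hall x).symm)
  have hvs : ∀ u ∈ (List.finRange d).flatMap (fun j => [v j + M *ᵥ v j, v j]), Q u ≠ 0 := by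
    intro u hu
    obtain ⟨j, -, hj⟩ := List.mem_flatMap.mp hu
    rw [List.mem_cons, List.mem_singleton] at hj
    rcases hj with rfl | rfl
    · exact hQw0 j
    · exact hv j
  rw [Cfsg.Agent.Helper45.mem_omega_prod_refl Q h2 hQ (by omega) _ hvs g (hMdef ▸ hMeq),
    skom_len, skom_qprod Q M v hQw, List.length_finRange]
  have hc : ((List.finRange d).map (fun j => Q (v j))).prod ≠ 0 := by
    apply List.prod_ne_zero
    intro h0
    obtain ⟨j, -, hj⟩ := List.mem_map.mp h0
    exact hv j hj
  constructor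
  · rintro ⟨-, s, hs⟩
    refine ⟨s / ((List.finRange d).map (fun j => Q (v j))).prod, ?_⟩
    field_simp
    linear_combination hs
  · rintro ⟨s, hs⟩
    refine ⟨⟨d, by ring⟩, s * ((List.finRange d).map (fun j => Q (v j))).prod, ?_⟩
    rw [hs]
    ring

end core

end Cfsg.Agent.Helper61.TSR2
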